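import Cfsg.Agent.Lib.MclNine.Map
import Cfsg.Agent.Lib.MclType.Auto

/-!
# An involution inducing the standard automorphism, when the centralizer may be larger
-/

set_option autoImplicit false
set_option maxRecDepth 100000
set_option linter.style.haveILetI false

namespace Cfsg.Lib.MclNine

open Equiv Cfsg.Lib.PermAut Cfsg.Lib.J3Type Cfsg.Lib.MclType Subgroup

/-- A triple product being trivial. -/
def cubeB (x : ℕ) : Bool := Nat.beq (dMul (dMul x x) x) dE

theorem cubes_ok : ((List.range 3).all fun k => (List.range 192).any fun a => cubeB a &&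
    (List.range 192).any fun b => cubeB b && Nat.beq (dMul a b) (dGen.getD k 0)) = true := by decide +kernel

theorem invols_ok : ((List.range 192).all fun x =>
      !(Nat.beq (dMul x x) dE) || memB x dEA || memB x dEB) = true ∧
    (dEA.all fun a => Nat.beq (dMul a a) dE && dEA.all fun b => Nat.beq (dMul a b) (dMul b a)) = true ∧
    (dEA.all fun a => memB a dEB || dEB.all fun b => memB b dEA || !(Nat.beq (dMul a b) (dMul b a))) = true := by
  decide +kernel

variable {G : Type*} [Group G] {C : Subgroup G} {t : G} {ψ : Cm ≃* C}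

/-- What is needed to find the involution. -/
structure Pre (C : Subgroup G) (t : G) (ψ : Cm ≃* C) : Prop where
  le : C ≤ centralizer ({t} : Set G)
  psiT : ext' ψ MclInv.tP = t
  inv : t * t = 1
  cube : ∀ x : G, x ^ 3 = 1 → x * t = t * x → x * dG ψ dV = dG ψ dV * x → x ∈ C
  cent : ∀ x : G, x * t = t * x →
    ((∀ e ∈ dEA, x * dG ψ e = dG ψ e * x) ∨ ∀ e ∈ dEB, x * dG ψ e = dG ψ e * x) → x ∈ C

theorem Pre.comm (P : Pre C t ψ) {x : G} (hx : x ∈ C) : x * t = t * x :=
  mem_centralizer_singleton_iff.1 (P.le hx)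

theorem Pre.comm_V (_P : Pre C t ψ) {x : ℕ} (hx : x < 192) : dG ψ x * dG ψ dV = dG ψ dV * dG ψ x := by
  have lV : dV < 192 := by decide
  rw [← dG_mul ψ hx lV, ← dG_mul ψ lV hx]
  exact congrArg _ (dP_inj (dP_mul hx lV).1 (dP_mul lV hx).1 (by
    rw [(dP_mul hx lV).2, (dP_mul lV hx).2]; exact dP_comm_V hx))

/-- Conjugation preserving the two involutions acts on the common part. -/
theorem Pre.auto (P : Pre C t ψ) {g : G}
    (hg : (g * t * g⁻¹ = dG ψ dV ∧ g * dG ψ dV * g⁻¹ = t) ∨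
      (g * t * g⁻¹ = t ∧ g * dG ψ dV * g⁻¹ = dG ψ dV)) :
    ∃ s : ℕ → ℕ, IsAuto s ∧ ∀ x < 192, dG ψ (s x) = g * dG ψ x * g⁻¹ := by
  have hc : ∀ x < 192, g * dG ψ x * g⁻¹ * t = t * (g * dG ψ x * g⁻¹) ∧
      g * dG ψ x * g⁻¹ * dG ψ dV = dG ψ dV * (g * dG ψ x * g⁻¹) := by
    intro x hx
    have h1 := P.comm (dG_mem ψ hx)
    have h2 := P.comm_V hx
    rcases hg with ⟨e1, e2⟩ | ⟨e1, e2⟩
    · refine ⟨?_, ?_⟩
      · conv_lhs => arg 2; rw [← e2]
        conv_rhs => arg 1; rw [← e2]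
        rw [conj_mul, conj_mul, h2]
      · conv_lhs => arg 2; rw [← e1]
        conv_rhs => arg 1; rw [← e1]
        rw [conj_mul, conj_mul, h1]
    · refine ⟨?_, ?_⟩
      · conv_lhs => arg 2; rw [← e1]
        conv_rhs => arg 1; rw [← e1]
        rw [conj_mul, conj_mul, h1]
      · conv_lhs => arg 2; rw [← e2]
        conv_rhs => arg 1; rw [← e2]
        rw [conj_mul, conj_mul, h2]
  have hgen : ∀ k < 3, g * dG ψ (dGen.getD k 0) * g⁻¹ ∈ C := by
    intro k hk
    have h := List.all_eq_true.1 cubes_ok k (List.mem_range.2 hk)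
    simp only [List.any_eq_true, Bool.and_eq_true, List.mem_range, cubeB, Nat.beq_eq] at h
    obtain ⟨a, ha, ha3, b, hb, hb3, hab⟩ := h
    have hm : ∀ a < 192, dMul (dMul a a) a = dE → g * dG ψ a * g⁻¹ ∈ C := fun a ha h3 => by
      refine P.cube _ ?_ (hc a ha).1 (hc a ha).2
      rw [conj_pow, pow_succ, pow_two, ← dG_mul ψ ha ha, ← dG_mul ψ (dP_mul ha ha).1 ha, h3, dG_one, mul_one,
        mul_inv_cancel]
    rw [← hab, dG_mul ψ ha hb, ← conj_mul]
    exact mul_mem (hm a ha ha3) (hm b hb hb3)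
  have hw : ∀ (w : List ℕ), (∀ k ∈ w, k < 3) → ∀ r < 192, g * dG ψ r * g⁻¹ ∈ C →
      g * dG ψ (w.foldl dStp r) * g⁻¹ ∈ C := by
    intro w
    induction w with
    | nil => intro _ r _ h; exact h
    | cons k w ih =>
      intro hw r hr h
      have hk := hw k (List.mem_cons_self ..)
      have hg' := dGen_ok.1 k hk
      obtain ⟨hsr, hsp⟩ := dP_step hr hk
      have e : dStp r k = dMul r (dGen.getD k 0) :=
        dP_inj hsr (dP_mul hr hg').1 (hsp.trans (dP_mul hr hg').2.symm)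
      refine ih (fun j hj => hw j (List.mem_cons_of_mem _ hj)) _ hsr ?_
      rw [e, dG_mul ψ hr hg', ← conj_mul]
      exact mul_mem h (hgen k hk)
  have himg : ∀ x, x < 192 → ∃ n < 192, dG ψ n = g * dG ψ x * g⁻¹ := fun x hx => by
    refine dG_surj ψ ?_ (hc x hx).2
    have h := hw (dWord.getD x []) dWord_lt dE (by decide) (by rw [dG_one, mul_one, mul_inv_cancel]; exact one_mem _)
    rwa [Nat.eq_of_beq_eq_true (List.all_eq_true.1 dGen_ok.2 x (List.mem_range.2 hx))] at h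
  choose! s hs hsg using himg
  refine ⟨s, ⟨hs, fun x hx y hy => ?_, fun x hx y hy e => ?_⟩, hsg⟩
  · refine dG_inj ψ (hs _ (dP_mul hx hy).1) (dP_mul (hs x hx) (hs y hy)).1 ?_
    rw [hsg _ (dP_mul hx hy).1, dG_mul ψ (hs x hx) (hs y hy), hsg x hx, hsg y hy, dG_mul ψ hx hy]
    group
  · have := congrArg (dG ψ) e
    rw [hsg x hx, hsg y hy, mul_left_inj, mul_right_inj] at this
    exact dG_inj ψ hx hy this

theorem lt_of_memE {x : ℕ} (h : x ∈ dEA ∨ x ∈ dEB) : x < 192 := by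
  have hn := normal_ok
  simp only [normalChk, Bool.and_eq_true] at hn
  obtain ⟨⟨⟨-, -⟩, hlA⟩, hlB⟩ := hn
  rcases h with h | h
  · exact Nat.lt_of_succ_le (Nat.le_of_ble_eq_true (List.all_eq_true.1 hlA x h))
  · exact Nat.lt_of_succ_le (Nat.le_of_ble_eq_true (List.all_eq_true.1 hlB x h))

/-- An automorphism maps the first elementary subgroup into one of the two. -/
theorem image_EA {s : ℕ → ℕ} (H : IsAuto s) :
    (∀ e ∈ dEA, s e ∈ dEA) ∨ ∀ e ∈ dEA, s e ∈ dEB := by
  by_contra hno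
  push Not at hno
  obtain ⟨⟨a, ha, haA⟩, b, hb, hbB⟩ := hno
  have sq : ∀ e ∈ dEA, s e ∈ dEA ∨ s e ∈ dEB := fun e he => by
    have he' := lt_of_memE (Or.inl he)
    have h := List.all_eq_true.1 invols_ok.2.1 e he
    rw [Bool.and_eq_true] at h
    have h2 : dMul (s e) (s e) = dE := by
      rw [← H.mul e he' e he', Nat.eq_of_beq_eq_true h.1, H.one]
    have h3 := List.all_eq_true.1 invols_ok.1 (s e) (List.mem_range.2 (H.lt e he'))
    simp only [h2, Nat.beq_refl, Bool.not_true, Bool.false_or, Bool.or_eq_true, memB_iff] at h3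
    exact h3
  have haB := (sq a ha).resolve_left haA
  have hbA := (sq b hb).resolve_right hbB
  have la := lt_of_memE (Or.inl ha)
  have lb := lt_of_memE (Or.inl hb)
  have hab : dMul b a = dMul a b := by
    have h := List.all_eq_true.1 invols_ok.2.1 b hb
    rw [Bool.and_eq_true] at h
    exact Nat.eq_of_beq_eq_true (List.all_eq_true.1 h.2 a ha)
  have h := List.all_eq_true.1 invols_ok.2.2 (s b) hbA
  rw [Bool.or_eq_true] at h
  rcases h with h | h
  · exact hbB (memB_iff.1 h)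
  have h' := List.all_eq_true.1 h (s a) haB
  rw [Bool.or_eq_true] at h'
  rcases h' with h' | h'
  · exact haA (memB_iff.1 h')
  · rw [← H.mul b lb a la, hab, H.mul a la b lb, Nat.beq_refl] at h'
    exact Bool.noConfusion h'

set_option maxHeartbeats 800000 in
/-- A swap of the two involutions can be chosen not to swap the two elementary subgroups. -/
theorem Pre.good_swap (P : Pre C t ψ) {g0 : G} (h0 : g0 * t * g0⁻¹ = dG ψ dV ∧ g0 * dG ψ dV * g0⁻¹ = t) :
    ∃ (g : G) (s : ℕ → ℕ), g * t * g⁻¹ = dG ψ dV ∧ g * dG ψ dV * g⁻¹ = t ∧ IsAuto s ∧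
      (∀ x < 192, dG ψ (s x) = g * dG ψ x * g⁻¹) ∧
      ∃ q < 192, ∀ k < 3, s (dGen.getD k 0) = dAl (dMul (dMul (dIv q) (dGen.getD k 0)) q) := by
  classical
  have lT : dT < 192 := by decide
  have lV : dV < 192 := by decide
  have hT : dG ψ dT = t := by rw [dG, dP_T, P.psiT]
  have hn := normal_ok
  simp only [normalChk, Bool.and_eq_true] at hn
  obtain ⟨⟨⟨-, hdiff⟩, hlA⟩, hlB⟩ := hn
  have hswap : ∀ {g : G} {s : ℕ → ℕ}, g * t * g⁻¹ = dG ψ dV → g * dG ψ dV * g⁻¹ = t → IsAuto s →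
      (∀ x < 192, dG ψ (s x) = g * dG ψ x * g⁻¹) → s dT = dV ∧ s dV = dT := fun e1 e2 H hsg =>
    ⟨dG_inj ψ (H.lt _ lT) lV (by rw [hsg _ lT, hT, e1]), dG_inj ψ (H.lt _ lV) lT (by rw [hsg _ lV, hT, e2])⟩
  obtain ⟨s, H, hsg⟩ := P.auto (Or.inl h0)
  obtain ⟨hgt, hgv⟩ := h0
  obtain ⟨sT, sV⟩ := hswap hgt hgv H hsg
  rcases H.classify sT sV with ⟨hAB, hBA⟩ | hin
  swap
  · exact ⟨g0, s, hgt, hgv, H, hsg, hin⟩
  by_cases hw : ∃ w : G, (w * t * w⁻¹ = t ∧ w * dG ψ dV * w⁻¹ = dG ψ dV) ∧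
      ∀ e ∈ dEA, ∃ f ∈ dEB, w * dG ψ e * w⁻¹ = dG ψ f
  · obtain ⟨w, ⟨wt, wv⟩, hwAB⟩ := hw
    have e1 : g0 * w * t * (g0 * w)⁻¹ = dG ψ dV := by
      calc g0 * w * t * (g0 * w)⁻¹ = g0 * (w * t * w⁻¹) * g0⁻¹ := by group
        _ = _ := by rw [wt, hgt]
    have e2 : g0 * w * dG ψ dV * (g0 * w)⁻¹ = t := by
      calc g0 * w * dG ψ dV * (g0 * w)⁻¹ = g0 * (w * dG ψ dV * w⁻¹) * g0⁻¹ := by group
        _ = _ := by rw [wv, hgv]
    obtain ⟨s', H', hsg'⟩ := P.auto (g := g0 * w) (Or.inl ⟨e1, e2⟩)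
    obtain ⟨sT', sV'⟩ := hswap e1 e2 H' hsg'
    rcases H'.classify sT' sV' with ⟨hAB', -⟩ | hin'
    swap
    · exact ⟨g0 * w, s', e1, e2, H', hsg', hin'⟩
    exfalso
    have hAA : ∀ e ∈ dEA, s' e ∈ dEA := fun e he => by
      obtain ⟨f, hf, hwe⟩ := hwAB e he
      have le := lt_of_memE (Or.inl he)
      have lf := lt_of_memE (Or.inr hf)
      have : s' e = s f := dG_inj ψ (H'.lt _ le) (H.lt _ lf) (by
        rw [hsg' e le, hsg f lf, ← hwe]; group)
      rw [this]
      exact hBA f hf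
    obtain ⟨a, ha, hnot⟩ := List.any_eq_true.1 hdiff
    obtain ⟨f, hf, hfa⟩ := Finset.surjOn_of_injOn_of_card_le s' (s := dEA.toFinset) (t := dEA.toFinset)
      (fun e he => List.mem_toFinset.2 (hAA e (List.mem_toFinset.1 he)))
      (fun x hx y hy e => H'.inj x (lt_of_memE (Or.inl (List.mem_toFinset.1 hx))) y
        (lt_of_memE (Or.inl (List.mem_toFinset.1 hy))) e) le_rfl (List.mem_toFinset.2 ha)
    rw [Bool.not_eq_true'] at hnot
    have := memB_iff.2 (hfa ▸ hAB' f (List.mem_toFinset.1 hf))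
    rw [hnot] at this
    exact Bool.noConfusion this
  · exfalso
    have hnorm : ∀ w : G, (w * t * w⁻¹ = t ∧ w * dG ψ dV * w⁻¹ = dG ψ dV) →
        ∀ e ∈ dEA, ∃ f ∈ dEA, w * dG ψ e * w⁻¹ = dG ψ f := by
      intro w hwc e he
      obtain ⟨sw, Hw, hsw⟩ := P.auto (g := w) (Or.inr hwc)
      rcases image_EA Hw with h | h
      · exact ⟨_, h e he, (hsw e (lt_of_memE (Or.inl he))).symm⟩
      · exact absurd ⟨w, hwc, fun e he => ⟨_, h e he, (hsw e (lt_of_memE (Or.inl he))).symm⟩⟩ hw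
    set g := g0
    set v := dG ψ dV with hv
    have htv : t * v = v * t := (P.comm (dG_mem ψ lV)).symm
    obtain ⟨jw, jt, jv, jact, jmem, lA, lB, jtv⟩ := jWord_ok
    have hok : okW jWord = true := all_lt (by norm_num) jw
    obtain ⟨jr, jval⟩ := tabW_spec hok
    set jp := wval piL jWord with hjp
    have hjC : jp ∈ Cm := wval_mem_Cm (all_lt (by norm_num) jw)
    set j := (ext' ψ jp)⁻¹ with hj
    have hjm : ext' ψ jp * t = t * ext' ψ jp := P.comm (ext_mem ψ hjC)
    have mvB : ∀ {a b : ℕ}, a < 192 → b < 192 →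
        sameB 9 275 (tabW jWord ++ [dTab.getD b 0]) (dTab.getD a 0 :: tabW jWord) = true →
        j * dG ψ a * j⁻¹ = dG ψ b := by
      intro a b ha hb h
      have e := eq_of_sameB (fun T hT' => (List.mem_append.1 hT').elim (jr T) (fun h' => by
          rw [List.mem_singleton.1 h']; exact (dP_rep hb).1))
        (fun T hT' => (List.mem_cons.1 hT').elim (fun h' => h' ▸ (dP_rep ha).1) (jr T)) h
      simp only [List.map_append, List.prod_append, List.map_cons, List.prod_cons, List.map_nil, List.prod_nil,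
        mul_one, jval] at e
      have e' : ext' ψ jp * dG ψ b = dG ψ a * ext' ψ jp := by
        rw [dG, dG, ← ext_mul ψ hjC (dP_rep hb).2.1, ← ext_mul ψ (dP_rep ha).2.1 hjC]
        exact congrArg _ e
      rw [hj, inv_inv, mul_assoc, ← e', inv_mul_cancel_left]
    have jjt : j * t * j⁻¹ = t := by
      rw [hj, inv_inv, mul_assoc, ← hjm, inv_mul_cancel_left]
    have lTV := (dP_mul lT lV).1
    have jjv : j * v * j⁻¹ = t * v := by
      rw [hv, mvB lV lTV jv, dG_mul ψ lT lV, hT]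
    set h := g * j with hh
    have h1 : h * t * h⁻¹ = v := by
      calc h * t * h⁻¹ = g * (j * t * j⁻¹) * g⁻¹ := by rw [hh]; group
        _ = v := by rw [jjt, hgt]
    have hgtv : g * (t * v) * g⁻¹ = t * v := by
      calc g * (t * v) * g⁻¹ = g * t * g⁻¹ * (g * v * g⁻¹) := by group
        _ = t * v := by rw [hgt, hgv, htv]
    have h2 : h * v * h⁻¹ = t * v := by
      calc h * v * h⁻¹ = g * (j * v * j⁻¹) * g⁻¹ := by rw [hh]; group
        _ = t * v := by rw [jjv, hgtv]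
    have h3 : h * (t * v) * h⁻¹ = t := by
      calc h * (t * v) * h⁻¹ = h * t * h⁻¹ * (h * v * h⁻¹) := by group
        _ = v * (t * v) := by rw [h1, h2]
        _ = t * (v * v) := by rw [← mul_assoc, ← htv, mul_assoc]
        _ = t := by
          rw [hv, ← dG_mul ψ lV lV, show dMul dV dV = dE by decide +kernel, dG_one, mul_one]
    set h3' := h * h * h with hh3
    have c1 : h3' * t = t * h3' := by
      rw [← mul_inv_eq_iff_eq_mul]
      calc h3' * t * h3'⁻¹ = h * (h * (h * t * h⁻¹) * h⁻¹) * h⁻¹ := by rw [hh3]; group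
        _ = t := by rw [h1, h2, h3]
    have c2 : h3' * v = v * h3' := by
      rw [← mul_inv_eq_iff_eq_mul]
      calc h3' * v * h3'⁻¹ = h * (h * (h * v * h⁻¹) * h⁻¹) * h⁻¹ := by rw [hh3]; group
        _ = v := by rw [h2, h3, h1]
    have lAe : ∀ e ∈ dEA, e < 192 := fun e he =>
      Nat.lt_of_succ_le (Nat.le_of_ble_eq_true (List.all_eq_true.1 hlA e he))
    have lBe : ∀ e ∈ dEB, e < 192 := fun e he =>
      Nat.lt_of_succ_le (Nat.le_of_ble_eq_true (List.all_eq_true.1 hlB e he))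
    have jA : ∀ e ∈ dEA, ∃ f ∈ dEA, j * dG ψ e * j⁻¹ = dG ψ f := fun e he => by
      obtain ⟨k, hk, rfl⟩ := List.getElem_of_mem he
      have hk' : k < 16 := lA ▸ hk
      have h0 := List.all_eq_true.1 jact k (List.mem_range.2 (by omega))
      have hm := List.all_eq_true.1 jmem k (List.mem_range.2 hk')
      rw [Bool.and_eq_true] at h0 hm
      rw [List.getD_append _ _ _ _ hk, List.getD_eq_getElem _ _ hk] at h0
      exact ⟨_, memB_iff.1 hm.1, mvB (lAe _ (List.getElem_mem hk))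
        (Nat.lt_of_succ_le (Nat.le_of_ble_eq_true h0.1)) h0.2⟩
    have jB : ∀ e ∈ dEB, ∃ f ∈ dEB, j * dG ψ e * j⁻¹ = dG ψ f := fun e he => by
      obtain ⟨k, hk, rfl⟩ := List.getElem_of_mem he
      have hk' : k < 16 := lB ▸ hk
      have h0 := List.all_eq_true.1 jact (16 + k) (List.mem_range.2 (by omega))
      have hm := List.all_eq_true.1 jmem k (List.mem_range.2 hk')
      rw [Bool.and_eq_true] at h0 hm
      rw [List.getD_append_right _ _ _ _ (by omega), lA, Nat.add_sub_cancel_left,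
        List.getD_eq_getElem _ _ hk] at h0
      exact ⟨_, memB_iff.1 hm.2, mvB (lBe _ (List.getElem_mem hk))
        (Nat.lt_of_succ_le (Nat.le_of_ble_eq_true h0.1)) h0.2⟩
    have hA : ∀ e ∈ dEA, ∃ f ∈ dEB, h * dG ψ e * h⁻¹ = dG ψ f := fun e he => by
      obtain ⟨f, hf, hje⟩ := jA e he
      exact ⟨s f, hAB f hf, by rw [hsg f (lAe f hf), ← hje, hh]; group⟩
    have hB : ∀ e ∈ dEB, ∃ f ∈ dEA, h * dG ψ e * h⁻¹ = dG ψ f := fun e he => by
      obtain ⟨f, hf, hje⟩ := jB e he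
      exact ⟨s f, hBA f hf, by rw [hsg f (lBe f hf), ← hje, hh]; group⟩
    obtain ⟨e, he, hnot⟩ := List.any_eq_true.1 hdiff
    have hsurjA : ∀ f ∈ dEA, f ∈ dEB := by
      intro f hf
      have d1 : h3'⁻¹ * t * h3'⁻¹⁻¹ = t := by rw [inv_inv, mul_assoc, ← c1, inv_mul_cancel_left]
      have d2 : h3'⁻¹ * v * h3'⁻¹⁻¹ = v := by rw [inv_inv, mul_assoc, ← c2, inv_mul_cancel_left]
      obtain ⟨f0, hf0, e0⟩ := hnorm _ ⟨d1, d2⟩ f hf
      obtain ⟨f1, hf1, e1⟩ := hA _ hf0
      obtain ⟨f2, hf2, e2⟩ := hB f1 hf1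
      obtain ⟨f3, hf3, e3⟩ := hA f2 hf2
      have : dG ψ f = dG ψ f3 := by
        rw [← e3, ← e2, ← e1, ← e0, hh3]
        group
      rw [dG_inj ψ (lAe f hf) (lBe f3 hf3) this]
      exact hf3
    rw [Bool.not_eq_true'] at hnot
    have := memB_iff.2 (hsurjA e he)
    rw [hnot] at this
    exact Bool.noConfusion this

set_option maxHeartbeats 800000 in
/-- Two swapped involutions give a configuration. -/
theorem Pre.exists_cfg (P : Pre C t ψ) {g0 : G} (h0 : g0 * t * g0⁻¹ = dG ψ dV ∧ g0 * dG ψ dV * g0⁻¹ = t) :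
    ∃ i : G, Cfg C t ψ i := by
  classical
  have hT : dG ψ dT = t := by rw [dG, dP_T, P.psiT]
  have htt := P.inv
  set v := dG ψ dV with hv
  have lT : dT < 192 := by decide
  have lV : dV < 192 := by decide
  have htv : t * v = v * t := (P.comm (dG_mem ψ lV)).symm
  obtain ⟨g, s, hgt, hgv, H, hsg, q, hq, hin⟩ := P.good_swap h0
  -- the inner case
  have ac := al_facts
  have al : ∀ x < 192, dAl x < 192 ∧ dAl (dAl x) = x := fun x hx => by
    have h := List.all_eq_true.1 ac.1 x (List.mem_range.2 hx)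
    rw [Bool.and_eq_true] at h
    exact ⟨Nat.lt_of_succ_le (Nat.le_of_ble_eq_true h.1), Nat.eq_of_beq_eq_true h.2⟩
  set i := (g * dG ψ q)⁻¹ with hi
  have hgen : ∀ k < 3, i⁻¹ * dG ψ (dMul (dMul (dIv q) (dGen.getD k 0)) q) * i =
      dG ψ (dAl (dMul (dMul (dIv q) (dGen.getD k 0)) q)) := fun k hk => by
    have hg' := dGen_ok.1 k hk
    have hid := (dP_rep hq).2.2.1
    rw [← hin k hk, hsg _ hg', dG_mul ψ (dP_mul hid hg').1 hq, dG_mul ψ hid hg', dG_inv ψ hq, hi]
    group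
  -- from the generators to all elements
  have hs2 : ∀ y < 192, g * dG ψ (dMul (dMul q y) (dIv q)) * g⁻¹ = i⁻¹ * dG ψ y * i := fun y hy => by
    rw [dG_mul ψ (dP_mul hq hy).1 (dP_rep hq).2.2.1, dG_mul ψ hq hy, dG_inv ψ hq, hi]; group
  have hword : ∀ (w : List ℕ), (∀ k ∈ w, k < 3) → ∀ r < 192,
      s r = dAl (dMul (dMul (dIv q) r) q) → s (w.foldl dStp r) = dAl (dMul (dMul (dIv q) (w.foldl dStp r)) q) := by
    intro w
    induction w with
    | nil => intro _ r _ h; exact h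
    | cons k w ih =>
      intro hw r hr hbase
      have hk := hw k (List.mem_cons_self ..)
      have hg' := dGen_ok.1 k hk
      obtain ⟨hsr, hsp⟩ := dP_step hr hk
      have e : dStp r k = dMul r (dGen.getD k 0) :=
        dP_inj hsr (dP_mul hr hg').1 (hsp.trans (dP_mul hr hg').2.symm)
      refine ih (fun j hj => hw j (List.mem_cons_of_mem _ hj)) _ hsr ?_
      rw [e, H.mul _ hr _ hg', hbase, hin k hk]
      have hid := (dP_rep hq).2.2.1
      have ha := (dP_mul (dP_mul hid hr).1 hq).1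
      have hb := (dP_mul (dP_mul hid hg').1 hq).1
      rw [← al_mul ha hb]
      congr 1
      refine dP_inj (dP_mul ha hb).1 (dP_mul (dP_mul hid (dP_mul hr hg').1).1 hq).1 ?_
      rw [(dP_mul ha hb).2, (dP_mul (dP_mul hid hr).1 hq).2, (dP_mul hid hr).2,
        (dP_mul (dP_mul hid hg').1 hq).2, (dP_mul hid hg').2,
        (dP_mul (dP_mul hid (dP_mul hr hg').1).1 hq).2, (dP_mul hid (dP_mul hr hg').1).2,
        (dP_mul hr hg').2, (dP_rep hq).2.2.2]
      group
  have hid := (dP_rep hq).2.2.1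
  have lE : dE < 192 := by decide
  have hbase : s dE = dAl (dMul (dMul (dIv q) dE) q) := by
    have h1 : dMul (dMul (dIv q) dE) q = dE := by
      refine dP_inj (dP_mul (dP_mul hid lE).1 hq).1 lE ?_
      rw [(dP_mul (dP_mul hid lE).1 hq).2, (dP_mul hid lE).2, (dP_rep hq).2.2.2, dP_E, mul_one, inv_mul_cancel]
    rw [h1, H.one, show dAl dE = dE by decide +kernel]
  have hall : ∀ x < 192, s x = dAl (dMul (dMul (dIv q) x) q) := fun x hx => by
    have h := hword (dWord.getD x []) dWord_lt dE lE hbase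
    rwa [Nat.eq_of_beq_eq_true (List.all_eq_true.1 dGen_ok.2 x (List.mem_range.2 hx))] at h
  have hact : ∀ y < 192, i⁻¹ * dG ψ y * i = dG ψ (dAl y) := fun y hy => by
    have hx := (dP_mul (dP_mul hq hy).1 hid).1
    rw [← hs2 y hy, ← hsg _ hx, hall _ hx]
    congr 2
    refine dP_inj (dP_mul (dP_mul hid hx).1 hq).1 hy ?_
    rw [(dP_mul (dP_mul hid hx).1 hq).2, (dP_mul hid hx).2, (dP_mul (dP_mul hq hy).1 hid).2,
      (dP_mul hq hy).2, (dP_rep hq).2.2.2]
    group
  have hiT : i⁻¹ * t * i = v := by rw [← hT, hact _ lT, ac.2.1]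
  have hiV : i⁻¹ * v * i = t := by rw [hv, hact _ lV, ac.2.2.1, hT]
  have c1 : i * i * t = t * (i * i) := by
    calc i * i * t = i * i * (i⁻¹ * v * i) := by rw [hiV]
      _ = i * v * i := by group
      _ = i * (i⁻¹ * t * i) * i := by rw [hiT]
      _ = t * (i * i) := by group
  have c2 : i * i * v = v * (i * i) := by
    calc i * i * v = i * i * (i⁻¹ * t * i) := by rw [hiT]
      _ = i * t * i := by group
      _ = i * (i⁻¹ * v * i) * i := by rw [hiV]
      _ = v * (i * i) := by group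
  have hcomm : ∀ x < 192, i * i * dG ψ x = dG ψ x * (i * i) := fun x hx => by
    have h2 : (i * i)⁻¹ * dG ψ x * (i * i) = dG ψ x := by
      calc (i * i)⁻¹ * dG ψ x * (i * i) = i⁻¹ * (i⁻¹ * dG ψ x * i) * i := by group
        _ = dG ψ x := by rw [hact x hx, hact _ (al x hx).1, (al x hx).2]
    calc i * i * dG ψ x = i * i * ((i * i)⁻¹ * dG ψ x * (i * i)) := by rw [h2]
      _ = _ := by group
  obtain ⟨d, hd, hdg⟩ := dG_surj ψ (P.cent _ c1 (Or.inl fun e he => hcomm e (lt_of_memE (Or.inl he)))) c2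
  have hdfix : dAl d = d := dG_inj ψ (al d hd).1 hd (by rw [← hact d hd, hdg]; group)
  have hdcen : ∀ x < 192, dMul d x = dMul x d := fun x hx => by
    refine dG_inj ψ (dP_mul hd hx).1 (dP_mul hx hd).1 ?_
    rw [dG_mul ψ hd hx, dG_mul ψ hx hd, hdg]
    have h2 : (i * i)⁻¹ * dG ψ x * (i * i) = dG ψ x := by
      calc (i * i)⁻¹ * dG ψ x * (i * i) = i⁻¹ * (i⁻¹ * dG ψ x * i) * i := by group
        _ = dG ψ x := by rw [hact x hx, hact _ (al x hx).1, (al x hx).2]
    calc i * i * dG ψ x = i * i * ((i * i)⁻¹ * dG ψ x * (i * i)) := by rw [h2]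
      _ = _ := by group
  have hd' : d = dE ∨ d = dMul dT dV := by
    have h := List.all_eq_true.1 centre_ok.1 d (List.mem_range.2 hd)
    simp only [Bool.or_eq_true, Bool.not_eq_true', List.any_eq_true, Nat.beq_eq] at h
    rcases h with ((h | ⟨x, hx, h⟩) | h) | h
    · rw [hdfix, Nat.beq_refl] at h; exact Bool.noConfusion h
    · rw [hdcen x (List.mem_range.1 hx), Nat.beq_refl] at h; exact Bool.noConfusion h
    · exact Or.inl h
    · exact Or.inr h
  rcases hd' with hd' | hd'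
  · rw [hd', dG_one] at hdg
    have hinv : i⁻¹ = i := inv_eq_of_mul_eq_one_left hdg.symm
    exact ⟨i, P.le, P.psiT, hdg.symm, fun x hx => by
      have := hact x hx
      rwa [hinv] at this, P.cent⟩
  · rw [hd', dG_mul ψ lT lV, hT] at hdg
    have hsq : (i * t) * (i * t) = 1 := by
      calc (i * t) * (i * t) = i * i * (i⁻¹ * t * i) * t := by group
        _ = t * v * v * t := by rw [hiT, ← hdg]
        _ = t * (v * v) * t := by group
        _ = 1 := by
          rw [hv, ← dG_mul ψ lV lV, show dMul dV dV = dE by decide +kernel, dG_one, mul_one, htt]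
    have hinv : (i * t)⁻¹ = i * t := inv_eq_of_mul_eq_one_left hsq
    refine ⟨i * t, P.le, P.psiT, hsq, fun x hx => ?_, P.cent⟩
    calc i * t * dG ψ x * (i * t) = (i * t)⁻¹ * dG ψ x * (i * t) := by rw [hinv]
      _ = t⁻¹ * (i⁻¹ * dG ψ x * i) * t := by group
      _ = dG ψ (dAl x) := by
        rw [hact x hx, mul_assoc, P.comm (dG_mem ψ (al x hx).1), inv_mul_cancel_left]

end Cfsg.Lib.MclNine
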