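import Cfsg.Agent.Lib.MclNine.Config
import Cfsg.Agent.Lib.CoverAlt.Eight
import Cfsg.Agent.Lib.CoverAlt.Twist

/-!
# The copy of the double cover of degree eight and its involutions, in degree at most twelve
-/

set_option autoImplicit false
set_option maxRecDepth 100000
set_option linter.style.haveILetI false

namespace Cfsg.Lib.MclNine

open Equiv Cfsg.Lib.PermAut Cfsg.Lib.J3Type Cfsg.Lib.MclType Cfsg.Lib.CoverAlt Subgroup

theorem eBase_ok : ([dEA, dEB].all fun ex => Nat.beq ex.length 16 && nodupB ex && memB dT ex && memB dE ex &&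
    ex.all fun e => Nat.blt e 192 && Nat.beq (dMul e e) dE && ex.all fun f => memB (dMul e f) ex) = true := by
  decide +kernel

variable {G : Type*} [Group G] {n : ℕ} {z : G}

/-- The part of degree eight inside the whole group. -/
def eightG (K : Cov (centralizer ({z} : Set G)) n) : Subgroup G :=
  (eightPart K).map (centralizer ({z} : Set G)).subtype

variable {K : Cov (centralizer ({z} : Set G)) n}

theorem eightG_le : eightG K ≤ centralizer ({z} : Set G) := Subgroup.map_subtype_le _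

theorem mem_eightG {x : centralizer ({z} : Set G)} : (x : G) ∈ eightG K ↔ x ∈ eightPart K :=
  ⟨fun ⟨y, hy, e⟩ => (Subtype.ext e : y = x) ▸ hy, fun h => ⟨x, h, rfl⟩⟩

theorem exists_psi (hn : 8 ≤ n) (hs : (K.s : G) = z) :
    ∃ ψ : Cm ≃* eightG K, ext' ψ MclInv.tP = z := by
  obtain ⟨ψ0⟩ := cover_iso cm_double_cover (eight_cover K hn)
  let ψ : Cm ≃* eightG K := ψ0.trans ((eightPart K).equivMapOfInjective _ (centralizer ({z} : Set G)).subtype_injective)
  refine ⟨ψ, ?_⟩
  rw [show MclInv.tP = ((tC : Cm) : P275) from rfl, ext_coe]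
  show (((ψ0 tC : eightPart K) : centralizer ({z} : Set G)) : G) = z
  have hc : ψ0 tC ∈ center ↥(eightPart K) := mem_center_iff.2 fun g => by
    obtain ⟨a, rfl⟩ := ψ0.surjective g
    rw [← map_mul, ← map_mul]
    exact congrArg ψ0 (Subtype.ext (MclInv.cent_le.2.2.2.2 _ a.2))
  have h1 : ψ0 tC ≠ 1 := fun e => MclInv.t_facts.2.1
    (congrArg Subtype.val (ψ0.injective (e.trans ψ0.map_one.symm)))
  obtain ⟨hz, -, -⟩ := eight_cover K hn
  haveI : Finite (center ↥(eightPart K)) := Nat.finite_of_card_ne_zero (by rw [hz]; norm_num)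
  have hS : (⟨K.s, s_mem_eightPart K⟩ : eightPart K) ∈ center ↥(eightPart K) :=
    mem_center_iff.2 fun g => Subtype.ext (K.comm g)
  have hS1 : (⟨K.s, s_mem_eightPart K⟩ : eightPart K) ≠ 1 := fun e => K.s1 (congrArg Subtype.val e)
  obtain ⟨a, b, -, hset⟩ := Nat.card_eq_two_iff.1 hz
  have hm : ∀ x : center ↥(eightPart K), x = a ∨ x = b := fun x => by
    have hx : x ∈ ({a, b} : Set _) := hset ▸ Set.mem_univ x
    simpa using hx
  refine Eq.trans ?_ hs
  rcases hm ⟨_, hc⟩ with e1 | e1 <;> rcases hm ⟨_, hS⟩ with e2 | e2 <;> rcases hm 1 with e3 | e3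
  all_goals first
    | exact congrArg (fun w : center ↥(eightPart K) => (((w : eightPart K) : centralizer ({z} : Set G)) : G))
        (e1.trans e2.symm)
    | exact absurd (congrArg Subtype.val (e1.trans e3.symm)) h1
    | exact absurd (congrArg Subtype.val (e2.trans e3.symm)) hS1

/-- An isomorphism with the copy of degree eight, matching the involutions. -/
structure Deg (z : G) (K : Cov (centralizer ({z} : Set G)) n) (ψ : Cm ≃* eightG K) : Prop where
  eight : 8 ≤ n
  twelve : n ≤ 12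
  cs : (K.s : G) = z
  psiT : ext' ψ MclInv.tP = z

variable {ψ : Cm ≃* eightG K}

theorem exists_toC {g : P275} (hg : g ∈ Cm) :
    ∃ x : centralizer ({z} : Set G), (x : G) = ext' ψ g ∧ x ∈ eightPart K := by
  obtain ⟨x, hx, e⟩ := ext_mem ψ hg
  exact ⟨x, e, hx⟩

theorem Deg.inv (D : Deg z K ψ) : z * z = 1 := by
  rw [← D.cs]; exact congrArg Subtype.val K.ss

/-- A noncentral involution moves exactly eight points. -/
theorem Deg.support_eight (D : Deg z K ψ) {x : centralizer ({z} : Set G)} (hx : x * x = 1) (h1 : x ≠ 1)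
    (h2 : x ≠ K.s) : (K.p x).support.card = 8 := by
  obtain ⟨k, hk⟩ := K.dvd_card_support hx
  have hle : (K.p x).support.card ≤ n := by
    have := Finset.card_le_univ (K.p x).support
    rwa [Fintype.card_fin] at this
  have hpos : (K.p x).support.card ≠ 0 := fun e =>
    (K.ker x (Perm.support_eq_empty_iff.1 (Finset.card_eq_zero.1 e))).elim h1 h2
  have := D.twelve
  omega

/-- Inside the part of degree eight, a noncentral involution fixes exactly the other points. -/
theorem Deg.fix_iff (D : Deg z K ψ) {x : centralizer ({z} : Set G)} (hm : x ∈ eightPart K) (hx : x * x = 1)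
    (h1 : x ≠ 1) (h2 : x ≠ K.s) (i : Fin n) : K.p x i = i ↔ 8 ≤ (i : ℕ) := by
  refine ⟨fun h => ?_, hm i⟩
  have hsub : (K.p x).support ⊆ Finset.univ.filter fun i : Fin n => (i : ℕ) < 8 := fun j hj => by
    rw [Finset.mem_filter]
    refine ⟨Finset.mem_univ _, not_le.1 fun h => ?_⟩
    exact Perm.mem_support.1 hj (hm j h)
  have hcard : (Finset.univ.filter fun i : Fin n => (i : ℕ) < 8).card ≤ 8 := by
    have := Finset.card_le_card_of_injOn (s := Finset.univ.filter fun i : Fin n => (i : ℕ) < 8)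
      (t := Finset.range 8) (fun i => (i : ℕ))
      (fun i hi => Finset.mem_range.2 (Finset.mem_filter.1 hi).2) Fin.val_injective.injOn
    simpa using this
  have heq := Finset.eq_of_subset_of_card_le hsub (by rw [D.support_eight hx h1 h2]; exact hcard)
  by_contra hi
  have : i ∈ (K.p x).support := heq ▸ Finset.mem_filter.2 ⟨Finset.mem_univ _, not_le.1 hi⟩
  exact Perm.mem_support.1 this h

theorem Deg.dG_inv_elem (D : Deg z K ψ) {e : ℕ} (he : e < 192) (hee : dMul e e = dE) (h1 : e ≠ dE)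
    (h2 : e ≠ dT) : ∃ x : centralizer ({z} : Set G), (x : G) = dG ψ e ∧ x ∈ eightPart K ∧
      x * x = 1 ∧ x ≠ 1 ∧ x ≠ K.s := by
  obtain ⟨x, hx, hm⟩ := exists_toC (ψ := ψ) (dP_rep he).2.1
  refine ⟨x, hx, hm, Subtype.ext ?_, fun h => h1 ?_, fun h => h2 ?_⟩
  · show (x : G) * x = 1
    rw [hx]
    show dG ψ e * dG ψ e = 1
    rw [← dG_mul ψ he he, hee, dG_one]
  · exact dG_inj ψ he (by decide) (by
      rw [dG_one]
      show ext' ψ (dP e) = 1
      rw [← hx, h, OneMemClass.coe_one])
  · exact dG_inj ψ he (by decide) (by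
      show ext' ψ (dP e) = ext' ψ (dP dT)
      rw [← hx, h, D.cs, dP_T, D.psiT])

theorem Deg.exists_vC (D : Deg z K ψ) : ∃ x : centralizer ({z} : Set G), (x : G) = dG ψ dV ∧ x ∈ eightPart K ∧
    x * x = 1 ∧ x ≠ 1 ∧ x ≠ K.s :=
  D.dG_inv_elem (by decide) (by decide +kernel) (by decide) (by decide)

/-- All noncentral involutions of the centralizer are conjugate. -/
theorem Deg.conj_V (D : Deg z K ψ) {x : G} (hx : x * x = 1) (hc : x * z = z * x) (hne : x ≠ z) (h1 : x ≠ 1) :
    ∃ c : G, c * z = z * c ∧ c * x * c⁻¹ = dG ψ dV := by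
  classical
  let xC : centralizer ({z} : Set G) := ⟨x, mem_centralizer_singleton_iff.2 hc⟩
  have hxx : xC * xC = 1 := Subtype.ext hx
  have x1 : xC ≠ 1 := fun e => h1 (congrArg Subtype.val e)
  have x2 : xC ≠ K.s := fun e => hne ((congrArg Subtype.val e).trans D.cs)
  obtain ⟨vv, hv, hvm, hvv, v1, v2⟩ := D.exists_vC
  have hct : ∀ y : centralizer ({z} : Set G), y * y = 1 → y ≠ 1 → y ≠ K.s →
      (K.p y).cycleType = Multiset.replicate 4 2 := by
    intro y hy y1 y2
    have ho : orderOf (K.p y) = 2 := orderOf_eq_prime (by rw [pow_two, ← map_mul, hy, map_one])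
      fun e => (K.ker y e).elim y1 y2
    obtain ⟨m, hm⟩ := Perm.cycleType_prime_order (σ := K.p y) (ho ▸ Nat.prime_two)
    have hsum := Perm.sum_cycleType (K.p y)
    rw [hm, Multiset.sum_replicate, ho, D.support_eight hy y1 y2, smul_eq_mul] at hsum
    rw [hm, ho, show m + 1 = 4 by omega]
  obtain ⟨τ, hτ⟩ := isConj_iff.1 (Perm.isConj_iff_cycleType_eq.2
    ((hct xC hxx x1 x2).trans (hct vv hvv v1 v2).symm))
  obtain ⟨τ', hs', hτ'⟩ : ∃ τ' : Perm (Fin n), Perm.sign τ' = 1 ∧ τ' * K.p xC * τ'⁻¹ = K.p vv := by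
    rcases Int.units_eq_one_or (Perm.sign τ) with h | h
    · exact ⟨τ, h, hτ⟩
    obtain ⟨a, ha⟩ := Finset.card_pos.1 (show 0 < (K.p xC).support.card by
      rw [D.support_eight hxx x1 x2]; norm_num)
    rw [Perm.mem_support] at ha
    have i2 : ∀ w, K.p xC (K.p xC w) = w := fun w => by
      rw [← Perm.mul_apply, ← map_mul, hxx, map_one, Perm.one_apply]
    have hsw : swap a (K.p xC a) * K.p xC * (swap a (K.p xC a))⁻¹ = K.p xC := by
      rw [mul_inv_eq_iff_eq_mul]
      refine Equiv.ext fun w => ?_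
      simp only [Perm.mul_apply, swap_apply_def]
      have := i2 a; have := i2 w
      grind
    refine ⟨τ * swap a (K.p xC a), by rw [map_mul, h, Perm.sign_swap (Ne.symm ha)]; rfl, ?_⟩
    rw [← hτ]
    calc τ * swap a (K.p xC a) * K.p xC * (τ * swap a (K.p xC a))⁻¹
        = τ * (swap a (K.p xC a) * K.p xC * (swap a (K.p xC a))⁻¹) * τ⁻¹ := by group
      _ = _ := by rw [hsw]
  obtain ⟨c, hc'⟩ := K.surj τ' hs'
  set y := c * xC * c⁻¹ with hy
  have hym : y ∈ eightPart K := fun i hi => by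
    rw [hy, map_mul, map_mul, map_inv, hc', hτ']
    exact hvm i hi
  obtain ⟨g, hg, hgy⟩ := ext_surj ψ (mem_eightG.2 hym)
  have hyG : (y : G) * y = 1 := congrArg Subtype.val (show y * y = 1 by
    rw [hy, conj_mul, hxx, mul_one, mul_inv_cancel])
  have hy1 : y ≠ 1 := fun e => x1 (conj_eq_one_iff.1 (hy ▸ e))
  have hy2 : y ≠ K.s := fun e => x2 (by
    rw [hy, mul_inv_eq_iff_eq_mul, ← K.comm] at e
    exact mul_left_cancel e)
  have hg2 : g * g = 1 := ext_inj ψ (mul_mem hg hg) (one_mem _) (by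
    rw [ext_mul ψ hg hg, ext_one, hgy, hyG])
  have hg1 : g ≠ 1 := fun e => hy1 (Subtype.ext (by rw [← hgy, e, ext_one]; rfl))
  obtain ⟨d, hd, rfl⟩ := inv_class hg hg2 hg1 fun e => hy2 (Subtype.ext (by rw [← hgy, e, D.psiT, D.cs]))
  obtain ⟨dC, hdC, -⟩ := exists_toC (ψ := ψ) hd
  refine ⟨(dC⁻¹ * c : centralizer ({z} : Set G)), mem_centralizer_singleton_iff.1 (dC⁻¹ * c).2, ?_⟩
  show ((dC : G))⁻¹ * c * x * ((dC : G)⁻¹ * c)⁻¹ = ext' ψ (dP dV)
  have lV := (dP_rep (x := dV) (by decide)).2.1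
  rw [ext_mul ψ (mul_mem hd lV) (inv_mem hd), ext_mul ψ hd lV, ext_inv ψ hd, ← hdC] at hgy
  have e : (c : G) * x * (c : G)⁻¹ = y := rfl
  calc (dC : G)⁻¹ * c * x * ((dC : G)⁻¹ * c)⁻¹ = (dC : G)⁻¹ * ((c : G) * x * (c : G)⁻¹) * dC := by group
    _ = _ := by rw [e, ← hgy]; group

/-- Two commuting conjugates of the central involution can be exchanged. -/
theorem Deg.exists_swap (D : Deg z K ψ) (hni : ∃ a : G, a * z * a⁻¹ * z = z * (a * z * a⁻¹) ∧ a * z * a⁻¹ ≠ z) :
    ∃ g : G, g * z * g⁻¹ = dG ψ dV ∧ g * dG ψ dV * g⁻¹ = z := by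
  obtain ⟨a0, hc0, hne0⟩ := hni
  have hz1 : z ≠ 1 := fun e => K.s1 (Subtype.ext (D.cs.trans e))
  have hconj : ∀ a : G, a * z * a⁻¹ * (a * z * a⁻¹) = 1 ∧ a * z * a⁻¹ ≠ 1 := fun a =>
    ⟨by rw [conj_mul, D.inv, mul_one, mul_inv_cancel], fun e => hz1 (conj_eq_one_iff.1 e)⟩
  obtain ⟨c, hcz, hc⟩ := D.conj_V (hconj a0).1 hc0 hne0 (hconj a0).2
  obtain ⟨a, ha⟩ : ∃ a : G, a * z * a⁻¹ = dG ψ dV := ⟨c * a0, by rw [← hc]; group⟩
  have hvz : dG ψ dV * z = z * dG ψ dV :=
    mem_centralizer_singleton_iff.1 (eightG_le (dG_mem ψ (by decide)))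
  have huc : a⁻¹ * z * a⁻¹⁻¹ * z = z * (a⁻¹ * z * a⁻¹⁻¹) := by
    calc a⁻¹ * z * a⁻¹⁻¹ * z = a⁻¹ * (z * (a * z * a⁻¹)) * a := by group
      _ = a⁻¹ * ((a * z * a⁻¹) * z) * a := by rw [ha, hvz]
      _ = _ := by group
  have hne : a⁻¹ * z * a⁻¹⁻¹ ≠ z := fun e => by
    have h1 : z = dG ψ dV := by
      calc z = a * (a⁻¹ * z * a⁻¹⁻¹) * a⁻¹ := by group
        _ = dG ψ dV := by rw [e, ha]
    have h2 : dG ψ dT = dG ψ dV := by rw [← h1, dG, dP_T, D.psiT]
    exact absurd (dG_inj ψ (by decide) (by decide) h2) (by decide)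
  obtain ⟨d, hdz, hd⟩ := D.conj_V (hconj a⁻¹).1 huc hne (hconj a⁻¹).2
  refine ⟨d * a⁻¹, ?_, ?_⟩
  · rw [← hd]; group
  · rw [← ha]
    calc d * a⁻¹ * (a * z * a⁻¹) * (d * a⁻¹)⁻¹ = d * z * d⁻¹ := by group
      _ = z := by rw [hdz, mul_inv_cancel_right]

/-- In degree at most ten the hypotheses of the construction hold. -/
theorem Deg.pre (D : Deg z K ψ) (hn : n ≤ 10) : Pre (eightG K) z ψ := by
  classical
  refine ⟨eightG_le, D.psiT, D.inv, fun x h3 hxz hxv => ?_, fun x hxz hE => ?_⟩
  · let xC : centralizer ({z} : Set G) := ⟨x, mem_centralizer_singleton_iff.2 hxz⟩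
    refine (mem_eightG (x := xC)).2 fun i hi => ?_
    obtain ⟨vv, hv, hvm, hvv, v1, v2⟩ := D.exists_vC
    have hcm : xC * vv = vv * xC := Subtype.ext (by show x * (vv : G) = vv * x; rw [hv, hxv])
    have hout : ∀ j : Fin n, 8 ≤ (j : ℕ) → 8 ≤ (K.p xC j : ℕ) := fun j hj => by
      rw [← D.fix_iff hvm hvv v1 v2, ← Perm.mul_apply, ← map_mul, ← hcm, map_mul, Perm.mul_apply, hvm j hj]
    have hcub : K.p xC (K.p xC (K.p xC i)) = i := by
      rw [← Perm.mul_apply, ← Perm.mul_apply, ← map_mul, ← map_mul]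
      have : xC * xC * xC = 1 := Subtype.ext (by show x * x * x = 1; rw [← h3, pow_succ, pow_two])
      rw [this, map_one, Perm.one_apply]
    have a1 := hout i hi
    have a2 := hout _ a1
    have b0 := (K.p xC i).isLt
    have b1 := (K.p xC (K.p xC i)).isLt
    have b2 := i.isLt
    by_contra hne
    have d1 : (K.p xC i : ℕ) ≠ i := fun e => hne (Fin.ext e)
    have d2 : (K.p xC (K.p xC i) : ℕ) ≠ (K.p xC i : ℕ) := fun e =>
      hne ((K.p xC).injective (Fin.ext e))
    have d3 : (K.p xC (K.p xC i) : ℕ) ≠ i := fun e => hne (by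
      have h := congrArg (K.p xC) (Fin.ext e : K.p xC (K.p xC i) = i)
      rw [hcub] at h
      exact h.symm)
    omega
  · obtain ⟨ex, hex, hcomm⟩ : ∃ ex : List ℕ, (ex = dEA ∨ ex = dEB) ∧ ∀ e ∈ ex, x * dG ψ e = dG ψ e * x := by
      rcases hE with h | h
      exacts [⟨_, Or.inl rfl, h⟩, ⟨_, Or.inr rfl, h⟩]
    let xC : centralizer ({z} : Set G) := ⟨x, mem_centralizer_singleton_iff.2 hxz⟩
    refine (mem_eightG (x := xC)).2 ?_
    set σ := K.p xC with hσ
    have hb := List.all_eq_true.1 eBase_ok ex (by rcases hex with rfl | rfl <;> simp)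
    simp only [Bool.and_eq_true, List.all_eq_true, memB_iff, Nat.beq_eq] at hb
    obtain ⟨⟨⟨⟨hlen, hnd⟩, hTx⟩, hEx⟩, hall⟩ := hb
    have hlt : ∀ e ∈ ex, e < 192 := fun e he => Nat.lt_of_succ_le (Nat.le_of_ble_eq_true (hall e he).1.1)
    have hsq : ∀ e ∈ ex, dMul e e = dE := fun e he => (hall e he).1.2
    have hcl : ∀ e ∈ ex, ∀ f ∈ ex, dMul e f ∈ ex := fun e he f hf => (hall e he).2 f hf
    have hC : ∀ e ∈ ex, ∃ y : centralizer ({z} : Set G), (y : G) = dG ψ e ∧ y ∈ eightPart K := fun e he =>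
      exists_toC (ψ := ψ) (dP_rep (hlt e he)).2.1
    choose! y hy hym using hC
    have hpc : ∀ e ∈ ex, ∀ i, σ (K.p (y e) i) = K.p (y e) (σ i) := fun e he i => by
      have : xC * y e = y e * xC := Subtype.ext (by show x * (y e : G) = y e * x; rw [hy e he, hcomm e he])
      rw [hσ, ← Perm.mul_apply, ← map_mul, this, map_mul, Perm.mul_apply]
    have hmov : ∀ e ∈ ex, e ≠ dE → e ≠ dT → ∀ i, K.p (y e) i = i ↔ 8 ≤ (i : ℕ) := by
      intro e he e1 e2
      obtain ⟨w, hw, hwm, hww, w1, w2⟩ := D.dG_inv_elem (hlt e he) (hsq e he) e1 e2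
      have : y e = w := Subtype.ext ((hy e he).trans hw.symm)
      rw [this]
      exact D.fix_iff hwm hww w1 w2
    have hmulp : ∀ e ∈ ex, ∀ f ∈ ex, K.p (y (dMul e f)) = K.p (y e) * K.p (y f) := fun e he f hf => by
      rw [← map_mul]
      refine congrArg K.p (Subtype.ext ?_)
      show (y (dMul e f) : G) = (y e : G) * y f
      rw [hy _ (hcl e he f hf), hy e he, hy f hf, dG_mul ψ (hlt e he) (hlt f hf)]
    -- transitivity on the first eight points
    let i0 : Fin n := ⟨0, by have := D.eight; omega⟩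
    have hfib : ∀ e ∈ ex, ∀ f ∈ ex, K.p (y e) i0 = K.p (y f) i0 → f = e ∨ f = dMul e dT := by
      intro e he f hf h
      have hd := hcl e he f hf
      have hfix : K.p (y (dMul e f)) i0 = i0 := by
        rw [hmulp e he f hf, Perm.mul_apply, ← h, ← Perm.mul_apply, ← hmulp e he e he, hsq e he,
          show y dE = 1 from Subtype.ext ((hy _ hEx).trans (dG_one ψ)), map_one, Perm.one_apply]
      have key : dMul e (dMul e f) = f := dG_inj ψ (dP_mul (hlt e he) (hlt _ hd)).1 (hlt f hf) (by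
        rw [dG_mul ψ (hlt e he) (hlt _ hd), dG_mul ψ (hlt e he) (hlt f hf), ← mul_assoc,
          ← dG_mul ψ (hlt e he) (hlt e he), hsq e he, dG_one, one_mul])
      by_cases k1 : dMul e f = dE
      · left
        rw [← key, k1]
        exact dG_inj ψ (dP_mul (hlt e he) (hlt _ hEx)).1 (hlt e he) (by
          rw [dG_mul ψ (hlt e he) (hlt _ hEx), dG_one, mul_one])
      · by_cases k2 : dMul e f = dT
        · right; rw [← key, k2]
        · have := (hmov _ hd k1 k2 i0).1 hfix
          simp [i0] at this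
    set img := ex.toFinset.image fun e => K.p (y e) i0 with himg
    have hsub : img ⊆ Finset.univ.filter fun i : Fin n => (i : ℕ) < 8 := by
      intro i hi
      obtain ⟨e, he, rfl⟩ := Finset.mem_image.1 hi
      refine Finset.mem_filter.2 ⟨Finset.mem_univ _, ?_⟩
      exact (eightPart_stable K (hym e (List.mem_toFinset.1 he)) i0).2 (by norm_num [i0])
    have h16 : ex.toFinset.card ≤ 2 * img.card := by
      refine Finset.card_le_mul_card_image _ 2 fun b hb => ?_
      obtain ⟨e, he, rfl⟩ := Finset.mem_image.1 hb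
      refine (Finset.card_le_card (t := {e, dMul e dT}) fun f hf => ?_).trans Finset.card_le_two
      rw [Finset.mem_filter] at hf
      rcases hfib e (List.mem_toFinset.1 he) f (List.mem_toFinset.1 hf.1) hf.2.symm with h | h <;> simp [h]
    rw [List.toFinset_card_of_nodup (nodup_of_nodupB hnd), hlen] at h16
    have hcard8 : (Finset.univ.filter fun i : Fin n => (i : ℕ) < 8).card ≤ 8 := by
      have := Finset.card_le_card_of_injOn (s := Finset.univ.filter fun i : Fin n => (i : ℕ) < 8)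
        (t := Finset.range 8) (fun i => (i : ℕ))
        (fun i hi => Finset.mem_range.2 (Finset.mem_filter.1 hi).2) Fin.val_injective.injOn
      simpa using this
    have heq := Finset.eq_of_subset_of_card_le hsub (by omega)
    have htr : ∀ i : Fin n, (i : ℕ) < 8 → ∃ e ∈ ex, K.p (y e) i0 = i := fun i hi => by
      have : i ∈ img := heq ▸ Finset.mem_filter.2 ⟨Finset.mem_univ _, hi⟩
      obtain ⟨e, he, he'⟩ := Finset.mem_image.1 this
      exact ⟨e, List.mem_toFinset.1 he, he'⟩
    -- a moved element of the list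
    have hout : ∀ i : Fin n, 8 ≤ (i : ℕ) → 8 ≤ (σ i : ℕ) := fun i hi => by
      by_contra hlt'
      obtain ⟨e, he, e1, e2⟩ : ∃ e ∈ ex, e ≠ dE ∧ e ≠ dT := by
        by_contra hno
        push Not at hno
        have h2 : ex.toFinset ⊆ {dE, dT} := fun e he => by
          by_cases h : e = dE
          · simp [h]
          · simp [hno e (List.mem_toFinset.1 he) h]
        have := (Finset.card_le_card h2).trans Finset.card_le_two
        rw [List.toFinset_card_of_nodup (nodup_of_nodupB hnd), hlen] at this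
        omega
      exact hlt' ((hmov e he e1 e2 (σ i)).1 (by rw [← hpc e he, hym e he i hi]))
    have hin : ∀ i : Fin n, (i : ℕ) < 8 → (σ i : ℕ) < 8 := by
      intro i hi
      by_contra h
      obtain ⟨e, he, e1, e2⟩ : ∃ e ∈ ex, e ≠ dE ∧ e ≠ dT := by
        by_contra hno
        push Not at hno
        have h2 : ex.toFinset ⊆ {dE, dT} := fun e he => by
          by_cases h' : e = dE
          · simp [h']
          · simp [hno e (List.mem_toFinset.1 he) h']
        have := (Finset.card_le_card h2).trans Finset.card_le_two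
        rw [List.toFinset_card_of_nodup (nodup_of_nodupB hnd), hlen] at this
        omega
      have : K.p (y e) i = i := σ.injective (by rw [hpc e he, (hmov e he e1 e2 (σ i)).2 (not_lt.1 h)])
      exact absurd ((hmov e he e1 e2 i).1 this) (not_le.2 hi)
    obtain ⟨e, he, hei⟩ := htr (σ i0) (hin i0 (by norm_num [i0]))
    have hon : ∀ i : Fin n, (i : ℕ) < 8 → σ i = K.p (y e) i := by
      intro i hi
      obtain ⟨f, hf, rfl⟩ := htr i hi
      have hyc : y f * y e = y e * y f := by
        refine Subtype.ext ?_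
        show (y f : G) * y e = y e * y f
        rw [hy f hf, hy e he, ← dG_mul ψ (hlt f hf) (hlt e he), ← dG_mul ψ (hlt e he) (hlt f hf)]
        congr 1
        refine dG_inj ψ (hlt _ (hcl f hf e he)) (hlt _ (hcl e he f hf)) ?_
        have i1 : ∀ d ∈ ex, (dG ψ d)⁻¹ = dG ψ d := fun d hd => inv_eq_of_mul_eq_one_left (by
          rw [← dG_mul ψ (hlt d hd) (hlt d hd), hsq d hd, dG_one])
        rw [← i1 _ (hcl f hf e he), dG_mul ψ (hlt f hf) (hlt e he), mul_inv_rev, i1 e he, i1 f hf,
          dG_mul ψ (hlt e he) (hlt f hf)]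
      rw [hpc f hf, ← hei, ← Perm.mul_apply, ← map_mul, hyc, map_mul, Perm.mul_apply]
    set q := (y e)⁻¹ * xC with hq
    have hqi : ∀ i : Fin n, (i : ℕ) < 8 → K.p q i = i := fun i hi => by
      rw [hq, map_mul, map_inv, Perm.mul_apply, ← hσ, hon i hi]
      exact (K.p (y e)).symm_apply_apply i
    have hq1 : K.p q = 1 := by
      have hsub : (K.p q).support ⊆ Finset.univ.filter fun i : Fin n => ¬ (i : ℕ) < 8 := fun i hi =>
        Finset.mem_filter.2 ⟨Finset.mem_univ _, fun h => Perm.mem_support.1 hi (hqi i h)⟩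
      have h8 : (Finset.univ.filter fun i : Fin n => ¬ (i : ℕ) < 8).card ≤ 2 := by
        have := Finset.card_le_card_of_injOn (s := Finset.univ.filter fun i : Fin n => ¬ (i : ℕ) < 8)
          (t := Finset.range 2) (fun i => (i : ℕ) - 8)
          (fun i hi => Finset.mem_range.2 (by
            show (i : ℕ) - 8 < 2
            have := i.isLt; have := (Finset.mem_filter.1 hi).2; omega))
          (fun i hi j hj h => Fin.ext (by
            have := (Finset.mem_filter.1 hi).2; have := (Finset.mem_filter.1 hj).2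
            change (i : ℕ) - 8 = (j : ℕ) - 8 at h
            omega))
        simpa using this
      have hle := (Finset.card_le_card hsub).trans h8
      rcases Nat.eq_zero_or_pos (K.p q).support.card with h | h
      · exact Perm.support_eq_empty_iff.1 (Finset.card_eq_zero.1 h)
      · exfalso
        have hne1 : (K.p q).support.card ≠ 1 := Perm.card_support_ne_one _
        obtain ⟨a, b, hab, e⟩ := Perm.card_support_eq_two.1 (show (K.p q).support.card = 2 by omega)
        have := K.sign_eq q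
        rw [e, Perm.sign_swap hab] at this
        exact absurd this (by decide)
    intro i hi
    have : K.p xC = K.p (y e) := by
      have h := hq1
      rw [hq, map_mul, map_inv, inv_mul_eq_one] at h
      exact h.symm
    rw [this]
    exact hym e he i hi

end Cfsg.Lib.MclNine
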