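import Cfsg.Agent.Lib.MclNine.Rules
import Cfsg.Agent.Lib.MclType.Embed

/-!
# The model inside a group with a configuration
-/

set_option autoImplicit false
set_option maxRecDepth 100000
set_option linter.style.haveILetI false

namespace Cfsg.Lib.MclNine

open Equiv Cfsg.Lib.PermAut Cfsg.Lib.J3Type Cfsg.Lib.MclType Subgroup

variable {G : Type*} [Group G] [Finite G] {C : Subgroup G} {t i : G} {ψ : Cm ≃* C}

theorem card_graphC : Nat.card (graphC ψ) = 40320 := by
  rw [← card_Cm]
  refine (Nat.card_congr (MonoidHom.ofInjective ?_).toEquiv).symm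
  intro a b e
  exact Subtype.ext (congrArg Prod.snd e)

/-- A configuration gives the model group with the whole centralizer. -/
theorem Cfg.embed (H : Cfg C t ψ i) : ∃ φ : ↥MclInv.KK →* G, Function.Injective φ ∧
    ∀ g ∈ Cm, ∃ k : ↥MclInv.KK, (k : P275) = g ∧ φ k = ext' ψ g := by
  classical
  let f : ℕ → G × P275 := fun k => fP ψ i (sgM.getD k 0)
  set D : Subgroup (G × P275) := closure {y | ∃ j < mclCert.gens.length, lval f (mclCert.gens.getD j idL) = y}
  obtain ⟨hgens, hsubs, hlive⟩ := main_lists
  have hV : Valid mclCert f (graphC ψ) := by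
    refine ⟨main_val H, fun s hs => ?_⟩
    rw [hsubs] at hs
    simp only [List.mem_cons, List.not_mem_nil, or_false] at hs
    rcases hs with rfl | rfl | rfl | rfl | rfl
    · exact fP_graph (k := 0) (by norm_num)
    · exact fP_graph (k := 1) (by norm_num)
    · exact fP_graph (k := 2) (by norm_num)
    · exact fP_graph (k := 3) (by norm_num)
    · exact fP_graph (k := 5) (by norm_num)
  have hD : Nat.card D ≤ 898128000 := by
    have := card_closure_le hV mclCert_fact_ok mclCert_live_zero mclCert_row_ok (by rw [hlive]; norm_num)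
    rw [hlive, card_graphC] at this
    exact this.trans (by norm_num)
  have hlet : ∀ k, memB k [0, 1, 6] = true → fP ψ i k ∈ D := by
    intro k hk
    have := memB_iff.1 hk
    simp only [List.mem_cons, List.not_mem_nil, or_false] at this
    rcases this with rfl | rfl | rfl
    · exact subset_closure ⟨0, by rw [hgens]; norm_num, by rw [hgens]; rfl⟩
    · exact subset_closure ⟨1, by rw [hgens]; norm_num, by rw [hgens]; rfl⟩
    · exact subset_closure ⟨2, by rw [hgens]; norm_num, by rw [hgens]; rfl⟩
  have hword : ∀ w : List ℕ, (w.all fun l => memB (Nat.div l 2) [0, 1, 6]) = true → wval (fP ψ i) w ∈ D := by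
    intro w hw
    induction w with
    | nil => exact one_mem _
    | cons l w ih =>
      simp only [List.all_cons, Bool.and_eq_true] at hw
      rw [wval_cons]
      refine mul_mem ?_ (ih hw.2)
      have := hlet _ hw.1
      unfold lval
      split
      · exact one_mem _
      · split
        · exact this
        · exact inv_mem this
  obtain ⟨k0, k1, k2, a0, a1, a2, l0, l1, b0, b1⟩ := gen_words
  -- the projection
  have hDK : ∀ z ∈ D, z.2 ∈ MclInv.KK := by
    intro z hz
    have : D ≤ MclInv.KK.comap (MonoidHom.snd G P275) := by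
      refine (closure_le _).2 ?_
      rintro y ⟨j, hj, rfl⟩
      rw [hgens] at hj ⊢
      have hj3 : j < 3 := hj
      interval_cases j
      · exact MclInv.cent_le.1 (piL_mem (k := 0) (by norm_num))
      · exact MclInv.cent_le.1 (piL_mem (k := 1) (by norm_num))
      · exact piL_mem_KK
    exact this hz
  let π : D →* ↥MclInv.KK := ((MonoidHom.snd G P275).comp D.subtype).codRestrict _ fun z => hDK _ z.2
  have hmap : ∀ (w : List ℕ) (T : ℕ), (w.all fun l => memB (Nat.div l 2) [0, 1, 6]) = true →
      Rep 9 (toP 9 275 T) T → sameB 9 275 (tabW w) [T] = true →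
      ∃ z ∈ D, z.2 = toP 9 275 T := by
    intro w T hw hT hs
    refine ⟨_, hword w hw, ?_⟩
    rw [wval_snd, wval_of_same (List.all_eq_true.2 fun l hl => ?_) (by simpa using hT) hs]
    · simp
    · have := memB_iff.1 (List.all_eq_true.1 hw l hl)
      simp only [List.mem_cons, List.not_mem_nil, or_false] at this
      have h' : l / 2 = 0 ∨ l / 2 = 1 ∨ l / 2 = 6 := this
      simp only [Nat.blt, Nat.ble_eq]
      omega
  have Gn := Cert.gen_of_check Mcl.gen_check
  have hπ : Function.Surjective π := by
    intro x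
    have hle : MclInv.KK ≤ D.map (MonoidHom.snd G P275) := by
      change Subgroup.closure ({toP 9 275 Mcl.cert.a, toP 9 275 Mcl.cert.c, toP 9 275 Mcl.cert.d} : Set P275) ≤ _
      rw [closure_le]
      rintro y (rfl | rfl | rfl)
      · exact hmap _ _ k0 Gn.a a0
      · exact hmap _ _ k1 Gn.c a1
      · exact hmap _ _ k2 Gn.d a2
    obtain ⟨z, hz, e⟩ := hle x.2
    exact ⟨⟨z, hz⟩, Subtype.ext e⟩
  have hπb : Function.Bijective π := (Nat.bijective_iff_surjective_and_card π).2
    ⟨hπ, le_antisymm (hD.trans card_KK.ge) (Nat.card_le_card_of_surjective π hπ)⟩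
  let e := MulEquiv.ofBijective π hπb
  let φ : ↥MclInv.KK →* G := ((MonoidHom.fst G P275).comp D.subtype).comp e.symm.toMonoidHom
  have hφ : ∀ z : D, φ (π z) = (z : G × P275).1 := fun z => by
    show ((e.symm (e z) : D) : G × P275).1 = _
    rw [e.symm_apply_apply]
  have hgraph : graphC ψ ≤ D := by
    have hg : ∀ (w : List ℕ) (T : ℕ), (w.all fun l => Nat.blt l 4) = true → Rep 9 (toP 9 275 T) T →
        sameB 9 275 (tabW w) [T] = true → (ext' ψ (toP 9 275 T), toP 9 275 T) ∈ D := by
      intro w T hw hT hs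
      have h12 := all_lt (m := 12) (by norm_num) hw
      have hv : wval piL w = toP 9 275 T := by
        rw [wval_of_same (all_lt (by norm_num) hw) (by simpa using hT) hs]; simp
      have : wval (fP ψ i) w = (ext' ψ (toP 9 275 T), toP 9 275 T) :=
        Prod.ext (by rw [wval_fst, gam_word h12, hv]) (by rw [wval_snd, hv])
      rw [← this]
      refine hword w (List.all_eq_true.2 fun l hl => memB_iff.2 ?_)
      have hl4 : l < 4 := Nat.lt_of_succ_le (Nat.le_of_ble_eq_true (List.all_eq_true.1 hw l hl))
      have h' : Nat.div l 2 = 0 ∨ Nat.div l 2 = 1 := by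
        show l / 2 = 0 ∨ l / 2 = 1
        omega
      rcases h' with h' | h' <;> simp [h']
    intro z hz
    obtain ⟨hz2, hz1⟩ := mem_graphC.1 hz
    have : ∀ g : P275, g ∈ Cm → (ext' ψ g, g) ∈ D := by
      intro g hg'
      induction hg' using closure_induction with
      | mem x hx =>
        rcases hx with rfl | rfl
        · exact hg _ _ l0 MclInv.cent_valid.g0 b0
        · exact hg _ _ l1 MclInv.cent_valid.g1 b1
      | one => rw [ext_one]; exact one_mem _
      | mul x y hx hy ix iy =>
        rw [ext_mul ψ hx hy]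
        exact mul_mem ix iy
      | inv x hx ix =>
        rw [ext_inv ψ hx]
        exact inv_mem ix
    rw [show z = (ext' ψ z.2, z.2) from Prod.ext hz1 rfl]
    exact this _ hz2
  refine ⟨φ, ?_, fun g hg => ?_⟩
  · haveI : IsSimpleGroup ↥MclInv.KK := by
      obtain ⟨⟨e'⟩, -⟩ := MclInv.kk_model
      exact e'.isSimpleGroup_congr.1 MclMult.simple_spor
    rcases (inferInstance : φ.ker.Normal).eq_bot_or_eq_top with h | h
    · exact (MonoidHom.ker_eq_bot_iff φ).1 h
    · exfalso
      have hm : (t, MclInv.tP) ∈ D := hgraph (mem_graphC.2 ⟨MclInv.cent_le.2.2.1, H.psiT.symm⟩)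
      have ht1 : φ (π ⟨_, hm⟩) = 1 := MonoidHom.mem_ker.1 (h ▸ mem_top _)
      rw [hφ] at ht1
      have : ext' ψ MclInv.tP = ext' ψ 1 := by rw [H.psiT, ext_one]; exact ht1
      exact MclInv.t_facts.2.1 (ext_inj ψ MclInv.cent_le.2.2.1 (one_mem _) this)
  · exact ⟨π ⟨(ext' ψ g, g), hgraph (mem_graphC.2 ⟨hg, rfl⟩)⟩, rfl, hφ _⟩


end Cfsg.Lib.MclNine
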