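import Cfsg.Agent.Lib.MclNine.ModelChecks
import Cfsg.Agent.Lib.MclType.Model
import Cfsg.Agent.Lib.MclType.DFacts

/-!
# A group of order `3 ^ 5` in the model, inverted by the involution modulo its centre
-/

set_option autoImplicit false
set_option maxRecDepth 100000

namespace Cfsg.Lib.MclNine

open Equiv Cfsg.Lib.PermAut Cfsg.Lib.J3Type Cfsg.Lib.MclType Subgroup

/-- The six elements. -/
noncomputable def nP (k : ℕ) : P275 := toP 9 275 (nTab.getD k 0)

theorem toP_nT (k : ℕ) : toP 9 275 (nT k) = nP k := rfl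

theorem nP_rep {k : ℕ} (hk : k < 6) : Rep 9 (nP k) (nT k) :=
  (rep_of_invPairOk (List.all_eq_true.1 nine_rep_ok.1 k (List.mem_range.2 hk))).1

theorem nP_cm {k : ℕ} (hk : k < 2) : nP k ∈ Cm := by
  have h := List.all_eq_true.1 nine_rep_ok.2.1 k (List.mem_range.2 hk)
  rw [Bool.and_eq_true] at h
  exact MclInv.cent_valid.mem_of_same (nP_rep (k := k) (by omega)) h.1 h.2

theorem nP_KK {k : ℕ} (hk : k < 6) : nP k ∈ MclInv.KK := by
  by_cases h2 : k < 2
  · exact MclInv.cent_le.1 (nP_cm h2)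
  · have h := List.all_eq_true.1 nine_rep_ok.2.2 (k - 2) (List.mem_range.2 (by omega))
    rw [Bool.and_eq_true, show Nat.add (k - 2) 2 = k by show k - 2 + 2 = k; omega] at h
    exact MclInv.mem_K (nP_rep (by omega)) h.1 h.2

/-- An equation of words in the six tables and the involution. -/
theorem eq_of_nsame {l l' : List ℕ} (hl : ∀ T ∈ l, T = MclInv.invT ∨ ∃ k < 6, T = nT k)
    (hl' : ∀ T ∈ l', T = MclInv.invT ∨ ∃ k < 6, T = nT k) (h : sameB 9 275 l l' = true) :
    (l.map (toP 9 275)).prod = (l'.map (toP 9 275)).prod := by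
  have hr : ∀ T, (T = MclInv.invT ∨ ∃ k < 6, T = nT k) → Rep 9 (toP 9 275 T) T := by
    rintro T (rfl | ⟨k, hk, rfl⟩)
    exacts [MclInv.t_facts.1, nP_rep hk]
  exact eq_of_sameB (fun T hT => hr T (hl T hT)) (fun T hT => hr T (hl' T hT)) h

theorem cube_nP {k : ℕ} (hk : k ∈ [0, 2, 3, 4, 5]) : nP k ^ 3 = 1 := by
  have hk6 : k < 6 := by
    simp only [List.mem_cons, List.not_mem_nil, or_false] at hk
    omega
  have e := eq_of_nsame (l := [nT k, nT k, nT k]) (l' := [])
    (by intro T hT; simp at hT; exact Or.inr ⟨k, hk6, hT⟩) (by simp) (List.all_eq_true.1 nine_rel_ok.1 k hk)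
  simp only [List.map_cons, List.map_nil, List.prod_cons, List.prod_nil, mul_one] at e
  rw [pow_succ, pow_two, mul_assoc]
  exact e

theorem comm_c {k : ℕ} (hk : k ∈ [1, 2, 3, 4, 5]) : nP 0 * nP k = nP k * nP 0 := by
  have hk6 : k < 6 := by
    simp only [List.mem_cons, List.not_mem_nil, or_false] at hk
    omega
  have hs : sameB 9 275 [nT 0, nT k] [nT k, nT 0] = true := by
    rcases List.mem_cons.1 hk with rfl | hk
    · exact nine_rel_ok.2.2.2.2.1
    · have h := List.all_eq_true.1 nine_rel_ok.2.2.2.2.2.1 k hk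
      rw [Bool.and_eq_true] at h
      exact h.1
  have e := eq_of_nsame (l := [nT 0, nT k]) (l' := [nT k, nT 0])
    (by intro T hT; simp at hT; rcases hT with rfl | rfl; exacts [Or.inr ⟨0, by omega, rfl⟩, Or.inr ⟨k, hk6, rfl⟩])
    (by intro T hT; simp at hT; rcases hT with rfl | rfl; exacts [Or.inr ⟨k, hk6, rfl⟩, Or.inr ⟨0, by omega, rfl⟩])
    hs
  simpa [nP, nT] using e

theorem inv_tP {k : ℕ} (hk : k ∈ [2, 3, 4, 5]) : MclInv.tP * nP k * MclInv.tP = nP k * nP k := by
  have hk6 : k < 6 := by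
    simp only [List.mem_cons, List.not_mem_nil, or_false] at hk
    omega
  have h := List.all_eq_true.1 nine_rel_ok.2.2.2.2.2.1 k hk
  rw [Bool.and_eq_true] at h
  have e := eq_of_nsame (l := [MclInv.invT, nT k, MclInv.invT]) (l' := [nT k, nT k])
    (by intro T hT; simp at hT; rcases hT with rfl | rfl | rfl; exacts [Or.inl rfl, Or.inr ⟨k, hk6, rfl⟩, Or.inl rfl])
    (by intro T hT; simp at hT; exact Or.inr ⟨k, hk6, hT⟩) h.2
  simpa [nP, nT, MclInv.tP, mul_assoc] using e

theorem comm_ab : nP 2 * nP 3 = nP 3 * nP 2 ∧ nP 4 * nP 5 = nP 5 * nP 4 := by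
  have key : ∀ i j, i < 6 → j < 6 → sameB 9 275 [nT i, nT j] [nT j, nT i] = true → nP i * nP j = nP j * nP i := by
    intro i j hi hj h
    have e := eq_of_nsame (l := [nT i, nT j]) (l' := [nT j, nT i])
      (by intro T hT; simp at hT; rcases hT with rfl | rfl; exacts [Or.inr ⟨i, hi, rfl⟩, Or.inr ⟨j, hj, rfl⟩])
      (by intro T hT; simp at hT; rcases hT with rfl | rfl; exacts [Or.inr ⟨j, hj, rfl⟩, Or.inr ⟨i, hi, rfl⟩]) h
    simpa [nP, nT] using e
  exact ⟨key 2 3 (by omega) (by omega) nine_rel_ok.2.2.2.2.2.2.1,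
    key 4 5 (by omega) (by omega) nine_rel_ok.2.2.2.2.2.2.2.1⟩

theorem comm_mixed {i j : ℕ} (hi : i < 2) (hj : j < 2) :
    nP (2 + i) * nP (4 + j) = nP 0 ^ nCom.getD (2 * i + j) 0 * (nP (4 + j) * nP (2 + i)) := by
  have h := List.all_eq_true.1 nine_rel_ok.2.2.2.2.2.2.2.2.2.1 (2 * i + j) (List.mem_range.2 (by omega))
  rw [show Nat.add 2 ((2 * i + j) / 2) = 2 + i by show 2 + _ = _; omega,
    show Nat.add 4 ((2 * i + j) % 2) = 4 + j by show 4 + _ = _; omega] at h
  have e := eq_of_nsame (l := [nT (2 + i), nT (4 + j)])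
    (l' := List.replicate (nCom.getD (2 * i + j) 0) (nT 0) ++ [nT (4 + j), nT (2 + i)])
    (by intro T hT; simp at hT; rcases hT with rfl | rfl; exacts [Or.inr ⟨_, by omega, rfl⟩, Or.inr ⟨_, by omega, rfl⟩])
    (by
      intro T hT; simp at hT
      rcases hT with hT | rfl | rfl
      exacts [Or.inr ⟨0, by omega, hT.2⟩, Or.inr ⟨_, by omega, rfl⟩, Or.inr ⟨_, by omega, rfl⟩]) h
  simpa [nP, nT] using e

theorem nP_ne : nP 0 ≠ 1 ∧ nP 1 ≠ 1 ∧ nP 2 * nP 4 ≠ nP 4 * nP 2 := by
  have key : ∀ {l l' : List ℕ}, (∀ T ∈ l, Rep 9 (toP 9 275 T) T) → (∀ T ∈ l', Rep 9 (toP 9 275 T) T) →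
      sameB 9 275 l l' = false → (l.map (toP 9 275)).prod ≠ (l'.map (toP 9 275)).prod := by
    intro l l' hl hl' h e
    have : sameB 9 275 l l' = true := sameB_iff.2 fun x hx => by
      rw [← ev_rep hl (⟨x, hx⟩ : Fin 275), ← ev_rep hl' (⟨x, hx⟩ : Fin 275), e]
      exact Nat.beq_refl _
    rw [this] at h
    exact Bool.noConfusion h
  have h0 : Rep 9 (toP 9 275 (nT 0)) (nT 0) := nP_rep (by omega)
  have h1 : Rep 9 (toP 9 275 (nT 1)) (nT 1) := nP_rep (by omega)
  have h2 : Rep 9 (toP 9 275 (nT 2)) (nT 2) := nP_rep (by omega)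
  have h4 : Rep 9 (toP 9 275 (nT 4)) (nT 4) := nP_rep (by omega)
  refine ⟨?_, ?_, ?_⟩
  · simpa [nP, nT] using key (by simpa using h0) (by simp) nine_rel_ok.2.2.1
  · simpa [nP, nT] using key (by simpa using h1) (by simp) nine_rel_ok.2.2.2.1
  · simpa [nP, nT] using key (by simp [h2, h4]) (by simp [h2, h4]) nine_rel_ok.2.2.2.2.2.2.2.2.1

theorem five_nP : nP 1 ^ 5 = 1 := by
  have e := eq_of_nsame (l := [nT 1, nT 1, nT 1, nT 1, nT 1]) (l' := [])
    (by intro T hT; simp at hT; exact Or.inr ⟨1, by omega, hT⟩) (by simp) nine_rel_ok.2.1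
  simpa [nP, nT, pow_succ, mul_assoc] using e

attribute [local irreducible] nP nT

/-- Words with different keys give different elements. -/
theorem card_ge_of_words {n : ℕ} (W : ℕ → List ℕ) (S : Subgroup P275)
    (hrep : ∀ e, ∀ T ∈ W e, Rep 9 (toP 9 275 T) T ∧ toP 9 275 T ∈ S)
    (hnd : nodupB ((List.range n).map fun e => nKey (W e)) = true) : n ≤ Nat.card S := by
  classical
  let f : Fin n → S := fun e => ⟨((W e).map (toP 9 275)).prod, list_prod_mem fun x hx => by
    obtain ⟨T, hT, rfl⟩ := List.mem_map.1 hx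
    exact (hrep e T hT).2⟩
  have hinj : Function.Injective f := fun a b e => by
    have h : ((W a).map (toP 9 275)).prod = ((W b).map (toP 9 275)).prod := congrArg Subtype.val e
    have hk : ∀ p : ℕ, p < 275 → ev 9 (W a) p = ev 9 (W b) p := fun p hp => by
      rw [← ev_rep (fun T hT => (hrep a T hT).1) (⟨p, hp⟩ : Fin 275),
        ← ev_rep (fun T hT => (hrep b T hT).1) (⟨p, hp⟩ : Fin 275), h]
    have hkey : nKey (W a) = nKey (W b) := by
      simp only [nKey, hk 38 (by norm_num), hk 19 (by norm_num), hk 162 (by norm_num)]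
    refine Fin.ext (((nodup_of_nodupB hnd).getElem_inj_iff (hi := by simp) (hj := by simp)).1 ?_)
    simpa using hkey
  simpa using Nat.card_le_card_of_injective f hinj

/-- The five generators. -/
noncomputable def nGrp : Subgroup P275 := closure {nP 0, nP 2, nP 3, nP 4, nP 5}

theorem nGrp_le : nGrp ≤ MclInv.KK := by
  rw [nGrp, closure_le]
  rintro x (rfl | rfl | rfl | rfl | rfl) <;> exact nP_KK (by omega)

theorem card_nGrp : 243 ∣ Nat.card nGrp := by
  classical
  have g : ∀ k, k = 0 ∨ k = 2 ∨ k = 3 ∨ k = 4 ∨ k = 5 → nP k ∈ nGrp := fun k hk => by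
    refine subset_closure ?_
    rcases hk with rfl | rfl | rfl | rfl | rfl <;> simp
  haveI : Fact (Nat.Prime 3) := ⟨Nat.prime_three⟩
  -- it is a group of three-power order
  set A : Subgroup P275 := closure {nP 0, nP 2, nP 3}
  set B : Subgroup P275 := closure {nP 4, nP 5}
  have hab : ∀ S : Set P275, (∀ x ∈ S, x ^ 3 = 1) → (∀ x ∈ S, ∀ y ∈ S, x * y = y * x) →
      IsPGroup 3 (closure S) := by
    intro S h3 hc x
    haveI := Subgroup.isMulCommutative_closure hc
    refine ⟨1, ?_⟩
    rw [pow_one]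
    obtain ⟨x, hx⟩ := x
    refine Subtype.ext ?_
    show x ^ 3 = 1
    induction hx using closure_induction with
    | mem y hy => exact h3 y hy
    | one => exact one_pow 3
    | mul y z hy hz iy iz =>
      have hcy : Commute y z :=
        congrArg Subtype.val (mul_comm' (⟨y, hy⟩ : closure S) ⟨z, hz⟩)
      rw [hcy.mul_pow, iy, iz, mul_one]
    | inv y hy iy => rw [inv_pow, iy, inv_one]
  have c2 := comm_c (k := 2) (by simp)
  have c3 := comm_c (k := 3) (by simp)
  have hA : IsPGroup 3 A := hab _ (by rintro x (rfl | rfl | rfl) <;> exact cube_nP (by simp))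
    (by rintro x (rfl | rfl | rfl) y (rfl | rfl | rfl) <;>
      first | rfl | exact c2 | exact c2.symm | exact c3 | exact c3.symm | exact comm_ab.1 | exact comm_ab.1.symm)
  have hB : IsPGroup 3 B := hab _ (by rintro x (rfl | rfl) <;> exact cube_nP (by simp))
    (by rintro x (rfl | rfl) y (rfl | rfl) <;> first | rfl | exact comm_ab.2 | exact comm_ab.2.symm)
  have m0 : nP 0 ∈ A := subset_closure (by simp)
  have hN : B ≤ normalizer (A : Set P275) := by
    rw [Subgroup.closure_le]
    intro y hy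
    have hk : ∃ j < 2, y = nP (4 + j) := by
      rcases hy with rfl | rfl
      exacts [⟨0, by norm_num, rfl⟩, ⟨1, by norm_num, rfl⟩]
    obtain ⟨j, hj, rfl⟩ := hk
    have hc0 : nP 0 * nP (4 + j) = nP (4 + j) * nP 0 := comm_c (by interval_cases j <;> simp)
    have hle : A ≤ A.comap (MulAut.conj (nP (4 + j))).toMonoidHom := by
      rw [Subgroup.closure_le]
      intro x hx
      show nP (4 + j) * x * (nP (4 + j))⁻¹ ∈ A
      have key : ∀ i < 2, nP (4 + j) * nP (2 + i) * (nP (4 + j))⁻¹ ∈ A := fun i hi => by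
        have hm : nP (2 + i) ∈ A := subset_closure (by interval_cases i <;> simp)
        rw [show nP (4 + j) * nP (2 + i) = (nP 0 ^ nCom.getD (2 * i + j) 0)⁻¹ * (nP (2 + i) * nP (4 + j)) by
          rw [comm_mixed hi hj, inv_mul_cancel_left], mul_assoc, mul_assoc, mul_inv_cancel, mul_one]
        exact mul_mem (inv_mem (pow_mem m0 _)) hm
      rcases hx with rfl | rfl | rfl
      · rw [← hc0, mul_inv_cancel_right]; exact m0
      · exact key 0 (by norm_num)
      · exact key 1 (by norm_num)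
    have heq : A.map (MulAut.conj (nP (4 + j))).toMonoidHom = A := by
      refine Subgroup.eq_of_le_of_card_ge (Subgroup.map_le_iff_le_comap.2 hle) (le_of_eq ?_)
      exact Nat.card_congr (A.equivMapOfInjective _ (MulAut.conj (nP (4 + j))).injective).toEquiv
    rw [SetLike.mem_coe, mem_normalizer_iff]
    intro x
    constructor
    · exact fun h => hle h
    · intro h
      rw [← heq] at h
      obtain ⟨w, hw, e⟩ := Subgroup.mem_map.1 h
      have : w = x := (MulAut.conj (nP (4 + j))).injective e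
      exact this ▸ hw
  have heq : nGrp = B ⊔ A := by
    refine le_antisymm ?_ (sup_le ?_ ?_)
    · rw [nGrp, closure_le]
      rintro x (rfl | rfl | rfl | rfl | rfl)
      exacts [mem_sup_right m0,
        mem_sup_right (show nP 2 ∈ A from subset_closure (Set.mem_insert_of_mem _ (Set.mem_insert _ _))),
        mem_sup_right (show nP 3 ∈ A from
          subset_closure (Set.mem_insert_of_mem _ (Set.mem_insert_of_mem _ (Set.mem_singleton _)))),
        mem_sup_left (show nP 4 ∈ B from subset_closure (Set.mem_insert _ _)),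
        mem_sup_left (show nP 5 ∈ B from subset_closure (Set.mem_insert_of_mem _ (Set.mem_singleton _)))]
    · refine closure_mono fun x hx => ?_
      rcases hx with h | h
      · exact Or.inr (Or.inr (Or.inr (Or.inl h)))
      · exact Or.inr (Or.inr (Or.inr (Or.inr h)))
    · refine closure_mono fun x hx => ?_
      rcases hx with h | h | h
      · exact Or.inl h
      · exact Or.inr (Or.inl h)
      · exact Or.inr (Or.inr (Or.inl h))
  have hP : IsPGroup 3 nGrp := heq ▸ hB.to_sup_of_normal_right' hA hN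
  obtain ⟨m, hm⟩ := IsPGroup.iff_card.1 hP
  -- at least two hundred and forty three elements
  have hrep : ∀ e, ∀ T ∈ nWord e, Rep 9 (toP 9 275 T) T ∧ toP 9 275 T ∈ nGrp := by
    intro e T hT
    simp only [nWord, List.mem_append, List.mem_replicate] at hT
    have key : ∀ k, (k = 0 ∨ k = 2 ∨ k = 3 ∨ k = 4 ∨ k = 5) →
        Rep 9 (toP 9 275 (nT k)) (nT k) ∧ toP 9 275 (nT k) ∈ nGrp := fun k hk => by
      rw [toP_nT]
      exact ⟨nP_rep (by omega), g k hk⟩
    rcases hT with ((((⟨-, rfl⟩ | ⟨-, rfl⟩) | ⟨-, rfl⟩) | ⟨-, rfl⟩) | ⟨-, rfl⟩)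
    exacts [key _ (by omega), key _ (by omega), key _ (by omega), key _ (by omega), key _ (by omega)]
  have h243 : 243 ≤ Nat.card nGrp :=
    card_ge_of_words nWord nGrp (fun e T hT => hrep e T hT) nine_rel_ok.2.2.2.2.2.2.2.2.2.2
  rw [hm] at h243 ⊢
  have : 5 ≤ m := by
    by_contra hlt
    have := Nat.pow_le_pow_right (show 1 ≤ 3 by norm_num) (show m ≤ 4 by omega)
    omega
  exact (show 243 = 3 ^ 5 by norm_num) ▸ pow_dvd_pow 3 this

end Cfsg.Lib.MclNine
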