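import Cfsg.Agent.Lib.Invol.Isolated

/-!
# Odd groups under a four-group, and inverted abelian permutation groups of small degree
-/

set_option autoImplicit false
set_option linter.style.haveILetI false

namespace Cfsg.Lib.MclNine

open Equiv Subgroup

section Four

variable {G : Type*} [Group G] [Finite G] {O : Subgroup G}

/-- A square root inside the group generated by the element. -/
theorem exists_sqrt (hO : Odd (Nat.card O)) {w : G} (hw : w ∈ O) :
    ∃ r ∈ O, r * r = w ∧ ∀ g : G, g * w * g⁻¹ = w⁻¹ → g * r * g⁻¹ = r⁻¹ := by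
  have ho : Odd (orderOf w) := hO.of_dvd_nat (orderOf_dvd_natCard _ hw)
  obtain ⟨k, hk⟩ := ho
  refine ⟨w ^ (k + 1), pow_mem hw _, ?_, fun g hg => ?_⟩
  · rw [← pow_add, show k + 1 + (k + 1) = orderOf w + 1 by omega, pow_succ, pow_orderOf_eq_one, one_mul]
  · rw [← conj_pow, hg, inv_pow]

theorem sq_inj (hO : Odd (Nat.card O)) {a b : G} (ha : a ∈ O) (hb : b ∈ O) (h : a * a = b * b) : a = b :=
  Invol.odd_sq_inj (hO.of_dvd_nat (orderOf_dvd_natCard _ ha)) (hO.of_dvd_nat (orderOf_dvd_natCard _ hb)) h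

/-- Splitting off the part inverted by an involution. -/
theorem split_inverted (hO : Odd (Nat.card O)) {z : G} (hzz : z * z = 1) (hz : ∀ x ∈ O, z * x * z⁻¹ ∈ O)
    {y : G} (hy : y ∈ O) : ∃ f ∈ O, ∃ x ∈ O, y = f * x ∧ z * f * z⁻¹ = f ∧ z * x * z⁻¹ = x⁻¹ ∧
      ∀ g : G, g * y * g⁻¹ = y → g * z = z * g → g * f * g⁻¹ = f := by
  have hzi : z⁻¹ = z := inv_eq_of_mul_eq_one_left hzz
  set w := y⁻¹ * (z * y * z⁻¹) with hw
  have hwm : w ∈ O := mul_mem (inv_mem hy) (hz y hy)
  have hwz : z * w * z⁻¹ = w⁻¹ := by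
    rw [hw, hzi]
    calc z * (y⁻¹ * (z * y * z)) * z = z * y⁻¹ * z * y * (z * z) := by group
      _ = z⁻¹ * y⁻¹ * z⁻¹ * y := by rw [hzz, mul_one, hzi]
      _ = _ := by group
  obtain ⟨r, hr, hrw, hrinv⟩ := exists_sqrt hO hwm
  have hrz := hrinv z hwz
  refine ⟨y * r, mul_mem hy hr, r⁻¹, inv_mem hr, by group, ?_, ?_, fun g hg hgz => ?_⟩
  · calc z * (y * r) * z⁻¹ = y * (y⁻¹ * (z * y * z⁻¹)) * (z * r * z⁻¹) := by group
      _ = y * (r * r) * r⁻¹ := by rw [← hw, hrw, hrz]
      _ = y * r := by group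
  · calc z * r⁻¹ * z⁻¹ = (z * r * z⁻¹)⁻¹ := by group
      _ = _ := by rw [hrz]
  · have hgw : g * w * g⁻¹ = w := by
      rw [hw]
      calc g * (y⁻¹ * (z * y * z⁻¹)) * g⁻¹ = (g * y * g⁻¹)⁻¹ * ((g * z) * y * (g * z)⁻¹) := by group
        _ = y⁻¹ * ((z * g) * y * (z * g)⁻¹) := by rw [hg, hgz]
        _ = y⁻¹ * (z * (g * y * g⁻¹) * z⁻¹) := by group
        _ = _ := by rw [hg]
    have hgr : g * r * g⁻¹ = r := by
      refine sq_inj hO ?_ hr (by rw [conj_mul, hrw, hgw])
      obtain ⟨k, hk⟩ : Odd (orderOf w) := hO.of_dvd_nat (orderOf_dvd_natCard _ hwm)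
      have : r = w ^ (k + 1) := by
        refine sq_inj hO hr (pow_mem hwm _) ?_
        rw [hrw, ← pow_add, show k + 1 + (k + 1) = orderOf w + 1 by omega, pow_succ, pow_orderOf_eq_one, one_mul]
      rw [this, ← conj_pow, hgw]
      exact pow_mem hwm _
    rw [← conj_mul, hg, hgr]

/-- An element of an odd group fixed by one involution is inverted by a commuting one, if only the identity is
fixed by both. -/
theorem inverted_of_fixed (hO : Odd (Nat.card O)) {z u : G} (hzz : z * z = 1) (hzu : u * z = z * u)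
    (hz : ∀ x ∈ O, z * x * z⁻¹ ∈ O)
    (h1 : ∀ x ∈ O, z * x * z⁻¹ = x → u * x * u⁻¹ = x → x = 1) {p : G} (hp : p ∈ O) (hpu : u * p * u⁻¹ = p) :
    z * p * z⁻¹ = p⁻¹ := by
  obtain ⟨f, hf, x, hx, e, hfz, hxz, hfg⟩ := split_inverted hO hzz hz hp
  rw [e, h1 f hf hfz (hfg u hpu hzu), one_mul]
  exact hxz

/-- The order of an odd group with a four-group acting. -/
theorem card_four (hO : Odd (Nat.card O)) {z u : G} (hzz : z * z = 1) (huu : u * u = 1) (hzu : u * z = z * u)
    (hz : ∀ x ∈ O, z * x * z⁻¹ ∈ O) (hu : ∀ x ∈ O, u * x * u⁻¹ ∈ O)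
    (h1 : ∀ x ∈ O, z * x * z⁻¹ = x → u * x * u⁻¹ = x → x = 1) :
    Nat.card O = Nat.card ↥(O ⊓ centralizer ({z} : Set G)) * Nat.card ↥(O ⊓ centralizer ({u} : Set G)) *
      Nat.card ↥(O ⊓ centralizer ({u * z} : Set G)) := by
  classical
  have hzi : z⁻¹ = z := inv_eq_of_mul_eq_one_left hzz
  have hui : u⁻¹ = u := inv_eq_of_mul_eq_one_left huu
  have hcu : ∀ {w x : G}, x ∈ O ⊓ centralizer ({w} : Set G) → w * x * w⁻¹ = x := fun {w x} hx => by
    rw [← mem_centralizer_singleton_iff.1 hx.2, mul_inv_cancel_right]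
  have hcz : ∀ {w x : G}, w * x * w⁻¹ = x → x ∈ centralizer ({w} : Set G) := fun {w x} h =>
    mem_centralizer_singleton_iff.2 (by rw [mul_inv_eq_iff_eq_mul] at h; exact h.symm)
  have hP : ∀ p ∈ O ⊓ centralizer ({u} : Set G), z * p * z⁻¹ = p⁻¹ := fun p hp =>
    inverted_of_fixed hO hzz hzu hz h1 hp.1 (hcu hp)
  have huz : u * z * (u * z) = 1 := by
    calc u * z * (u * z) = u * (z * u) * z := by group
      _ = (u * u) * (z * z) := by rw [← hzu]; group
      _ = 1 := by rw [huu, hzz, one_mul]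
  have hQ : ∀ q ∈ O ⊓ centralizer ({u * z} : Set G), z * q * z⁻¹ = q⁻¹ ∧ u * q * u⁻¹ = q⁻¹ := fun q hq => by
    have h2 : z * q * z⁻¹ = q⁻¹ := inverted_of_fixed hO hzz (u := u * z) (by rw [mul_assoc, hzz, mul_one, ← mul_assoc, ← hzu, mul_assoc, hzz, mul_one]) hz
      (fun x hx e1 e2 => h1 x hx e1 (by
        calc u * x * u⁻¹ = u * (z * x * z⁻¹) * u⁻¹ := by rw [e1]
          _ = u * z * x * (u * z)⁻¹ := by group
          _ = x := e2)) hq.1 (hcu hq)
    refine ⟨h2, ?_⟩
    calc u * q * u⁻¹ = u * z * (z * q * z⁻¹) * (u * z)⁻¹ := by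
          rw [hzi]
          calc u * q * u⁻¹ = u * (z * z) * q * (z * z) * u⁻¹ * (z⁻¹ * z) := by rw [hzz]; group
            _ = u * z * (z * q * z) * (u * z)⁻¹ := by rw [hzi, hzz]; group; simp [pow_two, hzz, mul_assoc]
      _ = u * z * q⁻¹ * (u * z)⁻¹ := by rw [h2]
      _ = (u * z * q * (u * z)⁻¹)⁻¹ := by group
      _ = q⁻¹ := by rw [hcu hq]
  let Φ : ↥(O ⊓ centralizer ({z} : Set G)) × ↥(O ⊓ centralizer ({u} : Set G)) ×
      ↥(O ⊓ centralizer ({u * z} : Set G)) → O := fun t =>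
    ⟨(t.1 : G) * ((t.2.1 : G) * t.2.2 * t.2.1), mul_mem t.1.2.1 (mul_mem (mul_mem t.2.1.2.1 t.2.2.2.1) t.2.1.2.1)⟩
  have key : ∀ {p q : G}, z * p * z⁻¹ = p⁻¹ → z * q * z⁻¹ = q⁻¹ → z * (p * q * p) * z⁻¹ = (p * q * p)⁻¹ := by
    intro p q hp hq
    calc z * (p * q * p) * z⁻¹ = (z * p * z⁻¹) * (z * q * z⁻¹) * (z * p * z⁻¹) := by group
      _ = _ := by rw [hp, hq]; group
  have hb : Function.Bijective Φ := by
    constructor
    · rintro ⟨f, p, q⟩ ⟨f', p', q'⟩ e
      have e' : (f : G) * ((p : G) * q * p) = f' * ((p' : G) * q' * p') := congrArg Subtype.val e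
      set x := (p : G) * q * p with hx
      set x' := (p' : G) * q' * p' with hx'
      have hxO : x ∈ O := mul_mem (mul_mem p.2.1 q.2.1) p.2.1
      have hxO' : x' ∈ O := mul_mem (mul_mem p'.2.1 q'.2.1) p'.2.1
      have hxz : z * x * z⁻¹ = x⁻¹ := key (hP p p.2) (hQ q q.2).1
      have hxz' : z * x' * z⁻¹ = x'⁻¹ := key (hP p' p'.2) (hQ q' q'.2).1
      have exx : x = x' := by
        refine sq_inj hO hxO hxO' ?_
        have hsq : ∀ {f x : G}, z * f * z⁻¹ = f → z * x * z⁻¹ = x⁻¹ → (z * (f * x) * z⁻¹)⁻¹ * (f * x) = x * x := by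
          intro f x hf hx
          rw [← conj_mul, hf, hx]; group
        rw [← hsq (hcu f.2) hxz, ← hsq (hcu f'.2) hxz', e']
      have eff : (f : G) = f' := by
        rw [exx] at e'
        exact mul_right_cancel e'
      have hxu : ∀ {p q : G}, u * p * u⁻¹ = p → u * q * u⁻¹ = q⁻¹ →
          (p * q * p) * (u * (p * q * p) * u⁻¹)⁻¹ = p * q * p⁻¹ * (p * q * p⁻¹) := by
        intro p q hp hq
        rw [← conj_mul, ← conj_mul, hp, hq]; group
      have e1 : (p : G) * q * (p : G)⁻¹ = (p' : G) * q' * (p' : G)⁻¹ := by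
        refine sq_inj hO (mul_mem (mul_mem p.2.1 q.2.1) (inv_mem p.2.1))
          (mul_mem (mul_mem p'.2.1 q'.2.1) (inv_mem p'.2.1)) ?_
        rw [← hxu (hcu p.2) (hQ q q.2).2, ← hxu (hcu p'.2) (hQ q' q'.2).2, ← hx, ← hx', exx]
      have epp : (p : G) = p' := by
        refine sq_inj hO p.2.1 p'.2.1 ?_
        have : ∀ p q : G, (p * q * p⁻¹)⁻¹ * (p * q * p) = p * p := fun p q => by group
        rw [← this p q, ← this p' q', e1, ← hx, ← hx', exx]
      have eqq : (q : G) = q' := by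
        rw [epp] at e1
        exact mul_left_cancel (mul_right_cancel e1)
      exact Prod.ext (Subtype.ext eff) (Prod.ext (Subtype.ext epp) (Subtype.ext eqq))
    · rintro ⟨y, hy⟩
      obtain ⟨f, hf, x, hx, rfl, hfz, hxz, -⟩ := split_inverted hO hzz hz hy
      set a := (u * x * u⁻¹)⁻¹ with ha
      have haO : a ∈ O := inv_mem (hu x hx)
      obtain ⟨r, hr, hrr, hrinv⟩ := exists_sqrt hO (mul_mem hx haO)
      have hua : u * a * u⁻¹ = x⁻¹ := by
        rw [ha, hui]
        calc u * (u * x * u)⁻¹ * u = u * u⁻¹ * x⁻¹ * (u⁻¹ * u) := by group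
          _ = _ := by group
      have hru : u * r * u⁻¹ = r⁻¹ := hrinv u (by
        rw [← conj_mul, hua]
        rw [show u * x * u⁻¹ = a⁻¹ by rw [ha, inv_inv]]
        group)
      have haz : z * a * z⁻¹ = a⁻¹ := by
        rw [ha, inv_inv]
        calc z * (u * x * u⁻¹)⁻¹ * z⁻¹ = ((z * u) * x * (z * u)⁻¹)⁻¹ := by group
          _ = (u * (z * x * z⁻¹) * u⁻¹)⁻¹ := by rw [← hzu]; group
          _ = _ := by rw [hxz]; group
      have hrz : z * r * z⁻¹ = a * r⁻¹ * a⁻¹ := by
        refine sq_inj hO (hz r hr) (mul_mem (mul_mem haO (inv_mem hr)) (inv_mem haO)) ?_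
        calc z * r * z⁻¹ * (z * r * z⁻¹) = z * (r * r) * z⁻¹ := by group
          _ = x⁻¹ * a⁻¹ := by rw [hrr, ← conj_mul, hxz, haz]
          _ = a * (x * a)⁻¹ * a⁻¹ := by group
          _ = a * r⁻¹ * a⁻¹ * (a * r⁻¹ * a⁻¹) := by rw [← hrr]; group
      set P2 := r * a⁻¹ with hP2
      have hP2O : P2 ∈ O := mul_mem hr (inv_mem haO)
      have hP2u : u * P2 * u⁻¹ = P2 := by
        rw [hP2, ← conj_mul, hru, show u * a⁻¹ * u⁻¹ = x by rw [← inv_inj, ← hua]; group]
        calc r⁻¹ * x = r⁻¹ * (x * a) * a⁻¹ := by group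
          _ = _ := by rw [← hrr]; group
      have hP2z : z * P2 * z⁻¹ = P2⁻¹ := by
        rw [hP2, ← conj_mul, hrz, show z * a⁻¹ * z⁻¹ = a by rw [show z * a⁻¹ * z⁻¹ = (z * a * z⁻¹)⁻¹ by group, haz, inv_inv]]
        group
      obtain ⟨p, hp, hpp, hpinv⟩ := exists_sqrt hO hP2O
      have hpu : u * p * u⁻¹ = p := by
        refine sq_inj hO (hu p hp) hp ?_
        rw [conj_mul, hpp, hP2u]
      have hpz : z * p * z⁻¹ = p⁻¹ := hpinv z hP2z
      set q := p⁻¹ * x * p⁻¹ with hq
      have hqz : z * q * z⁻¹ = q⁻¹ := by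
        have hpz' : z * p⁻¹ * z⁻¹ = p := by rw [show z * p⁻¹ * z⁻¹ = (z * p * z⁻¹)⁻¹ by group, hpz, inv_inv]
        rw [hq, ← conj_mul, ← conj_mul, hpz', hxz]; group
      have hqu : u * q * u⁻¹ = q⁻¹ := by
        have hpu' : u * p⁻¹ * u⁻¹ = p⁻¹ := by
          calc u * p⁻¹ * u⁻¹ = (u * p * u⁻¹)⁻¹ := by group
            _ = _ := by rw [hpu]
        rw [eq_inv_iff_mul_eq_one, hq, ← conj_mul, ← conj_mul, hpu', show u * x * u⁻¹ = a⁻¹ by rw [ha, inv_inv]]
        calc p⁻¹ * a⁻¹ * p⁻¹ * (p⁻¹ * x * p⁻¹) = p⁻¹ * a⁻¹ * (p * p)⁻¹ * x * p⁻¹ := by group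
          _ = p⁻¹ * (r⁻¹ * (x * a) * a⁻¹) * p⁻¹ := by rw [hpp, hP2]; group
          _ = p⁻¹ * (r * a⁻¹) * p⁻¹ := by rw [← hrr]; group
          _ = 1 := by rw [← hP2, ← hpp]; group
      have hquz : u * z * q * (u * z)⁻¹ = q := by
        calc u * z * q * (u * z)⁻¹ = u * (z * q * z⁻¹) * u⁻¹ := by group
          _ = (u * q * u⁻¹)⁻¹ := by rw [hqz]; group
          _ = q := by rw [hqu, inv_inv]
      have hqO : q ∈ O := mul_mem (mul_mem (inv_mem hp) hx) (inv_mem hp)
      refine ⟨⟨⟨f, hf, hcz hfz⟩, ⟨p, hp, hcz hpu⟩, ⟨q, hqO, hcz hquz⟩⟩, ?_⟩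
      refine Subtype.ext ?_
      show f * (p * q * p) = f * x
      rw [hq]; group
  rw [← Nat.card_congr (Equiv.ofBijective Φ hb), Nat.card_prod, Nat.card_prod, mul_assoc]

end Four

section Bound

variable {n : ℕ}

/-- The bound by the number of moved points and of fixed ones among them. -/
def bnd : ℕ → ℕ → ℕ
  | m, 0 => [1, 1, 1, 1, 1, 1, 3, 3, 3, 3, 5].getD m 0
  | m, 1 => [1, 1, 1, 3, 3, 5, 5, 7, 7, 9, 9].getD m 0
  | m, _ => [1, 1, 1, 3, 3, 5, 9, 9, 15, 15, 25].getD m 0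

theorem bndChk_ok : ((List.range 11).all fun m => (List.range 3).all fun f =>
    decide (1 ≤ bnd m f) && ((List.range 11).all fun s =>
      !decide (s % 2 = 1 ∧ 3 ≤ s ∧ s ≤ m ∧ 1 ≤ f) || decide (s * bnd (m - s) (f - 1) ≤ bnd m f)) &&
    ((List.range 6).all fun s =>
      !decide (s % 2 = 1 ∧ 3 ≤ s ∧ 2 * s ≤ m) || decide (s * bnd (m - 2 * s) f ≤ bnd m f))) = true := by decide +kernel

theorem bnd_ok : (∀ m < 11, ∀ f < 3, 1 ≤ bnd m f) ∧
    (∀ m < 11, ∀ f < 3, ∀ s < 11, s % 2 = 1 → 3 ≤ s → s ≤ m → 1 ≤ f → s * bnd (m - s) (f - 1) ≤ bnd m f) ∧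
    (∀ m < 11, ∀ f < 3, ∀ s < 6, s % 2 = 1 → 3 ≤ s → 2 * s ≤ m → s * bnd (m - 2 * s) f ≤ bnd m f) := by
  have h := bndChk_ok
  simp only [List.all_eq_true, List.mem_range, Bool.and_eq_true, Bool.or_eq_true, Bool.not_eq_true',
    decide_eq_true_eq, decide_eq_false_iff_not] at h
  exact ⟨fun m hm f hf => (h m hm f hf).1.1,
    fun m hm f hf s hs a b c d => ((h m hm f hf).1.2 s hs).resolve_left (fun e => e ⟨a, b, c, d⟩),
    fun m hm f hf s hs a b c => ((h m hm f hf).2 s hs).resolve_left (fun e => e ⟨a, b, c⟩)⟩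

/-- An abelian group of odd order inverted by an involution, with bounded moved points. -/
theorem card_le_bnd (τ : Perm (Fin n)) (hττ : τ * τ = 1) : ∀ (m : ℕ), m < 11 → ∀ f < 3,
    ∀ (A : Subgroup (Perm (Fin n))) (S : Finset (Fin n)), Odd (Nat.card A) →
      (∀ a ∈ A, ∀ b ∈ A, a * b = b * a) → (∀ a ∈ A, τ * a * τ⁻¹ = a⁻¹) →
      (∀ a ∈ A, ∀ x ∉ S, a x = x) → S.card ≤ m → (S.filter fun x => τ x = x).card ≤ f →
      Nat.card A ≤ bnd m f := by
  classical
  intro m
  induction m using Nat.strong_induction_on with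
  | _ m ih =>
    intro hm f hf A S hodd hc hinv hS hSm hSf
    by_cases htriv : ∀ a ∈ A, a = 1
    · have : Nat.card A = 1 := Nat.card_eq_one_iff_unique.2
        ⟨⟨fun a b => Subtype.ext ((htriv a a.2).trans (htriv b b.2).symm)⟩, ⟨1⟩⟩
      rw [this]
      exact bnd_ok.1 m hm f hf
    push Not at htriv
    obtain ⟨a0, ha0, ha1⟩ := htriv
    obtain ⟨p, hp⟩ : ∃ p, a0 p ≠ p := by
      by_contra h
      push Not at h
      exact ha1 (Equiv.ext h)
    have hinvol : ∀ x, τ (τ x) = x := fun x => by rw [← Perm.mul_apply, hττ, Perm.one_apply]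
    set O : Finset (Fin n) := Finset.univ.filter fun x => ∃ a ∈ A, a p = x with hO
    have hmem : ∀ {x}, x ∈ O ↔ ∃ a ∈ A, a p = x := by simp [hO]
    have hpO : p ∈ O := hmem.2 ⟨1, one_mem A, rfl⟩
    have hOS : O ⊆ S := fun x hx => by
      obtain ⟨a, ha, rfl⟩ := hmem.1 hx
      by_contra hns
      have h1 := hS (a * a0 * a⁻¹) (mul_mem (mul_mem ha ha0) (inv_mem ha)) _ hns
      rw [Perm.mul_apply, Perm.mul_apply] at h1
      exact hp (a.injective (by simpa using h1))
    have hcardO : Nat.card A = O.card * Nat.card ↥(A ⊓ MulAction.stabilizer (Perm (Fin n)) p) := by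
      have h := MulAction.card_orbit_mul_card_stabilizer_eq_card_group A p
      have e1 : Fintype.card (MulAction.orbit A p) = O.card := by
        rw [← Set.toFinset_card]
        congr 1
        ext x
        simp only [Set.mem_toFinset, MulAction.mem_orbit_iff, hmem]
        exact ⟨fun ⟨⟨a, ha⟩, e⟩ => ⟨a, ha, e⟩, fun ⟨a, ha, e⟩ => ⟨⟨a, ha⟩, e⟩⟩
      have e2 : Nat.card (MulAction.stabilizer A p) = Nat.card ↥(A ⊓ MulAction.stabilizer (Perm (Fin n)) p) := by
        refine Nat.card_congr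
          { toFun := fun a => ⟨(a : A), (a : A).2, a.2⟩
            invFun := fun a => ⟨⟨a, a.2.1⟩, a.2.2⟩
            left_inv := fun _ => rfl
            right_inv := fun _ => rfl }
      rw [← e1, ← e2, Nat.card_eq_fintype_card, Nat.card_eq_fintype_card]
      exact h.symm
    set A' := A ⊓ MulAction.stabilizer (Perm (Fin n)) p
    have hodd' : Odd (Nat.card A') := hodd.of_dvd_nat (Subgroup.card_dvd_of_le inf_le_left)
    have hsodd : O.card % 2 = 1 := Nat.odd_iff.1 (hodd.of_dvd_nat ⟨_, hcardO⟩)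
    have hfixO : ∀ a ∈ A', ∀ x ∈ O, a x = x := fun a ha x hx => by
      obtain ⟨b, hb, rfl⟩ := hmem.1 hx
      rw [← Perm.mul_apply, hc a ha.1 b hb, Perm.mul_apply]
      exact congrArg b ha.2
    have hs3 : 3 ≤ O.card := by
      have h2 : ({p, a0 p} : Finset (Fin n)) ⊆ O := by
        intro x hx
        simp only [Finset.mem_insert, Finset.mem_singleton] at hx
        rcases hx with rfl | rfl
        exacts [hpO, hmem.2 ⟨a0, ha0, rfl⟩]
      have := Finset.card_le_card h2
      rw [Finset.card_pair (Ne.symm hp)] at this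
      omega
    have hsm : O.card ≤ m := (Finset.card_le_card hOS).trans hSm
    by_cases hτp : τ p ∈ O
    · have hτO : ∀ x, x ∈ O → τ x ∈ O := fun x hx => by
        obtain ⟨a, ha, rfl⟩ := hmem.1 hx
        obtain ⟨b, hb, hb'⟩ := hmem.1 hτp
        refine hmem.2 ⟨a⁻¹ * b, mul_mem (inv_mem ha) hb, ?_⟩
        rw [Perm.mul_apply, hb', ← hinv a ha, Perm.mul_apply, Perm.mul_apply]
        exact congrArg (fun y => τ (a y)) (τ.symm_apply_apply p)
      obtain ⟨x0, hx0, hx0'⟩ : ∃ x ∈ O, τ x = x := by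
        by_contra hno
        push Not at hno
        have : Even O.card := by
          have hd : ∀ T : Finset (Fin n), (∀ x ∈ T, τ x ∈ T ∧ τ x ≠ x) → Even T.card := by
            intro T
            induction T using Finset.strongInduction with
            | _ T ih =>
              intro hT
              rcases T.eq_empty_or_nonempty with rfl | ⟨x, hx⟩
              · simp
              · have h1 := ih ((T.erase x).erase (τ x)) ?_ ?_
                · have c1 := Finset.card_erase_add_one hx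
                  have c2 := Finset.card_erase_add_one (s := T.erase x) (a := τ x)
                    (Finset.mem_erase.2 ⟨(hT x hx).2, (hT x hx).1⟩)
                  obtain ⟨k, hk⟩ := h1
                  exact ⟨k + 1, by omega⟩
                · exact lt_of_le_of_lt (Finset.erase_subset _ _) (Finset.erase_ssubset hx)
                · intro y hy
                  simp only [Finset.mem_erase] at hy ⊢
                  refine ⟨⟨fun e => hy.2.1 (τ.injective e), fun e => hy.1 (by rw [← e, hinvol]), (hT y hy.2.2).1⟩,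
                    (hT y hy.2.2).2⟩
          exact hd O fun x hx => ⟨hτO x hx, hno x hx⟩
        rw [Nat.even_iff] at this
        omega
      have hf1 : 1 ≤ f := by
        refine le_trans ?_ hSf
        exact Finset.card_pos.2 ⟨x0, Finset.mem_filter.2 ⟨hOS hx0, hx0'⟩⟩
      have hA' : Nat.card A' ≤ bnd (m - O.card) (f - 1) := by
        refine ih _ (by omega) (by omega) (f - 1) (by omega) A' (S \ O) hodd' (fun a ha b hb => hc a ha.1 b hb.1)
          (fun a ha => hinv a ha.1) (fun a ha x hx => ?_) ?_ ?_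
        · rw [Finset.mem_sdiff, not_and, not_not] at hx
          by_cases hxS : x ∈ S
          · exact hfixO a ha x (hx hxS)
          · exact hS a ha.1 x hxS
        · rw [Finset.card_sdiff_of_subset hOS]; omega
        · have h1 : ((S \ O).filter fun x => τ x = x) ⊆ (S.filter fun x => τ x = x).erase x0 := by
            intro x hx
            simp only [Finset.mem_filter, Finset.mem_sdiff] at hx
            exact Finset.mem_erase.2 ⟨fun e => hx.1.2 (e ▸ hx0), Finset.mem_filter.2 ⟨hx.1.1, hx.2⟩⟩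
          have h2 := Finset.card_le_card h1
          have h3 := Finset.card_erase_add_one (s := S.filter fun x => τ x = x) (Finset.mem_filter.2 ⟨hOS hx0, hx0'⟩)
          omega
      rw [hcardO]
      exact (Nat.mul_le_mul_left _ hA').trans (bnd_ok.2.1 m hm f hf _ (by omega) hsodd hs3 hsm hf1)
    · set O2 := O.image τ with hO2
      have hdis : Disjoint O O2 := Finset.disjoint_left.2 fun x hx hx' => by
        obtain ⟨y, hy, rfl⟩ := Finset.mem_image.1 hx'
        obtain ⟨a, ha, rfl⟩ := hmem.1 hy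
        obtain ⟨b, hb, hb'⟩ := hmem.1 hx
        refine hτp (hmem.2 ⟨a * b, mul_mem ha hb, ?_⟩)
        rw [Perm.mul_apply, hb']
        calc a (τ (a p)) = a ((τ * a * τ⁻¹) (τ p)) := by simp [Perm.mul_apply]
          _ = τ p := by rw [hinv a ha]; simp
      have hfixO2 : ∀ a ∈ A', ∀ x ∈ O2, a x = x := fun a ha x hx => by
        obtain ⟨y, hy, rfl⟩ := Finset.mem_image.1 hx
        have h := hinv a⁻¹ (inv_mem ha.1)
        rw [inv_inv] at h
        rw [← h, Perm.mul_apply, Perm.mul_apply]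
        simp only [Perm.inv_def, Equiv.symm_apply_apply]
        exact congrArg τ (by rw [Equiv.symm_apply_eq, hfixO a ha y hy])
      have hO2S : O2 ⊆ S := fun x hx => by
        obtain ⟨y, hy, rfl⟩ := Finset.mem_image.1 hx
        obtain ⟨a, ha, rfl⟩ := hmem.1 hy
        by_contra hns
        have h := hS _ (mul_mem (mul_mem ha ha0) (inv_mem ha)) _ hns
        have hb : τ * (a * a0 * a⁻¹) * τ⁻¹ = (a * a0 * a⁻¹)⁻¹ :=
          hinv _ (mul_mem (mul_mem ha ha0) (inv_mem ha))
        have h' := congrArg (fun g : Perm (Fin n) => g (τ (a p))) hb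
        simp only [Perm.mul_apply, Perm.inv_def, Equiv.symm_apply_apply] at h'
        have h2 : (a * a0 * a⁻¹).symm (τ (a p)) = τ (a p) := by rw [Equiv.symm_apply_eq, h]
        simp only [Perm.mul_apply, Perm.inv_def] at h2
        rw [h2] at h'
        exact hp (a.injective (τ.injective h'))
      have hcard2 : O2.card = O.card := Finset.card_image_of_injective _ τ.injective
      have h2s : (O ∪ O2).card = 2 * O.card := by rw [Finset.card_union_of_disjoint hdis, hcard2]; omega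
      have h2m : 2 * O.card ≤ m := h2s ▸ (Finset.card_le_card (Finset.union_subset hOS hO2S)).trans hSm
      have hA' : Nat.card A' ≤ bnd (m - 2 * O.card) f := by
        refine ih _ (by omega) (by omega) f hf A' (S \ (O ∪ O2)) hodd' (fun a ha b hb => hc a ha.1 b hb.1)
          (fun a ha => hinv a ha.1) (fun a ha x hx => ?_) ?_ ?_
        · rw [Finset.mem_sdiff, not_and, not_not] at hx
          by_cases hxS : x ∈ S
          · rcases Finset.mem_union.1 (hx hxS) with h | h
            exacts [hfixO a ha x h, hfixO2 a ha x h]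
          · exact hS a ha.1 x hxS
        · rw [Finset.card_sdiff_of_subset (Finset.union_subset hOS hO2S)]; omega
        · exact (Finset.card_le_card (Finset.filter_subset_filter _ Finset.sdiff_subset)).trans hSf
      rw [hcardO]
      exact (Nat.mul_le_mul_left _ hA').trans (bnd_ok.2.2 m hm f hf _ (by omega) hsodd hs3 h2m)

end Bound

end Cfsg.Lib.MclNine
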