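import Cfsg.Agent.Lib.MclNine.Degree
import Cfsg.Agent.Lib.MclNine.Model
import Cfsg.Agent.Lib.MclNine.Embed
import Cfsg.Agent.Lib.MclNine.OddFour
import Cfsg.Agent.Lib.ZStar.Main

/-!
# No fused involution in degree nine or ten

The odd core of the centralizer of a three-cycle lies in the copy of the model, so in the intersection of two
copies the three-cycle would lie in the odd core while it is not central there modulo that core.
-/

set_option autoImplicit false
set_option maxRecDepth 100000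
set_option linter.style.haveILetI false

namespace Cfsg.Lib.MclNine

open Equiv Equiv.Perm Cfsg Cfsg.Lib.PermAut Cfsg.Lib.J3Type Cfsg.Lib.MclType Cfsg.Lib.CoverAlt Subgroup

attribute [local irreducible] nP nT

/-- A permutation of order three commuting with one of order five, both inside eight points, is a three-cycle. -/
theorem three_of_commute {n : ℕ} {π γ : Perm (Fin n)} (F : Finset (Fin n)) (hF : F.card ≤ 8) (h3 : π ^ 3 = 1)
    (h5 : γ ^ 5 = 1) (hπ : π ≠ 1) (hγ : γ ≠ 1) (hc : π * γ = γ * π) (hπF : π.support ⊆ F)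
    (hγF : γ.support ⊆ F) : π.support.card = 3 := by
  classical
  haveI : Fact (Nat.Prime 3) := ⟨Nat.prime_three⟩
  haveI : Fact (Nat.Prime 5) := ⟨Nat.prime_five⟩
  have hsum : ∀ (ρ : Perm (Fin n)) (p : ℕ) [Fact p.Prime], ρ ^ p = 1 → ρ ≠ 1 → p ∣ ρ.support.card := by
    intro ρ p hp h1 h2
    have ho := orderOf_eq_prime h1 h2
    obtain ⟨m, hm⟩ := Perm.cycleType_prime_order (σ := ρ) (ho ▸ hp.out)
    rw [← Perm.sum_cycleType, hm, Multiset.sum_replicate, ho, smul_eq_mul]
    exact dvd_mul_left p _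
  have hpos : ∀ ρ : Perm (Fin n), ρ ≠ 1 → 0 < ρ.support.card := fun ρ h =>
    Finset.card_pos.2 (Finset.nonempty_iff_ne_empty.2 fun e => h (Perm.support_eq_empty_iff.1 e))
  obtain ⟨a, ha⟩ := hsum π 3 h3 hπ
  obtain ⟨b, hb⟩ := hsum γ 5 h5 hγ
  have a1 := hpos π hπ
  have b1 := hpos γ hγ
  have a2 := (Finset.card_le_card hπF).trans hF
  have b2 := (Finset.card_le_card hγF).trans hF
  by_contra hne
  have hπ6 : π.support.card = 6 := by omega
  have hγ5 : γ.support.card = 5 := by omega
  have hcyc : γ.IsCycle := by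
    have ho := orderOf_eq_prime h5 hγ
    obtain ⟨m, hm⟩ := Perm.cycleType_prime_order (σ := γ) (ho ▸ Nat.prime_five)
    have h := Perm.sum_cycleType γ
    rw [hm, Multiset.sum_replicate, ho, hγ5, smul_eq_mul] at h
    rw [← Perm.card_cycleType_eq_one, hm, Multiset.card_replicate]
    omega
  obtain ⟨x, hxγ, hxπ⟩ : ∃ x ∈ γ.support, x ∈ π.support := by
    by_contra hno
    push Not at hno
    have h := Finset.card_le_card (Finset.union_subset hπF hγF)
    rw [Finset.card_union_of_disjoint (Finset.disjoint_right.2 hno)] at h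
    omega
  have hsub : γ.support ⊆ π.support := by
    intro y hy
    obtain ⟨i, rfl⟩ := hcyc.exists_zpow_eq (Perm.mem_support.1 hxγ) (Perm.mem_support.1 hy)
    have hci : Commute π (γ ^ i) := (show Commute π γ from hc).zpow_right i
    rw [Perm.mem_support] at hxπ ⊢
    intro e
    rw [← Perm.mul_apply, hci.eq, Perm.mul_apply] at e
    exact hxπ ((γ ^ i).injective e)
  have hstab : ∀ y, π y ∈ γ.support ↔ y ∈ γ.support := fun y => by
    rw [Perm.mem_support, Perm.mem_support, ← Perm.mul_apply, ← hc, Perm.mul_apply]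
    exact π.injective.ne_iff
  set ρ := Perm.ofSubtype (π.subtypePerm hstab)
  have hρ3 : ρ ^ 3 = 1 := by
    rw [← map_pow, Perm.subtypePerm_pow]
    simp only [h3]
    exact (congrArg _ (Perm.subtypePerm_one _)).trans (map_one _)
  have hρs : ρ.support = γ.support := by
    ext y
    rw [Perm.mem_support]
    by_cases hy : y ∈ γ.support
    · rw [Perm.ofSubtype_apply_of_mem (p := (· ∈ γ.support)) _ hy]
      simp only [hy, iff_true]
      exact Perm.mem_support.1 (hsub hy)
    · rw [Perm.ofSubtype_apply_of_not_mem _ hy]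
      simp [hy]
  have hρ1 : ρ ≠ 1 := fun e => by rw [e, Perm.support_one] at hρs; exact absurd (hρs ▸ hxγ) (by simp)
  obtain ⟨k, hk⟩ := hsum ρ 3 hρ3 hρ1
  rw [hρs, hγ5] at hk
  omega

theorem conj_mem_oddCore_map {G : Type*} [Group G] [Finite G] (X : Subgroup G) {u : G}
    (hu : ∀ x, x ∈ X ↔ u * x * u⁻¹ ∈ X) {y : G} (hy : y ∈ (oddCore X).map X.subtype) :
    u * y * u⁻¹ ∈ (oddCore X).map X.subtype := by
  let e : X ≃* X :=
    { toFun := fun x => ⟨u * x * u⁻¹, (hu x).1 x.2⟩
      invFun := fun x => ⟨u⁻¹ * x * u, (hu _).2 (by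
        rw [show u * (u⁻¹ * (x : G) * u) * u⁻¹ = x by group]; exact x.2)⟩
      left_inv := fun x => Subtype.ext (show u⁻¹ * (u * (x : G) * u⁻¹) * u = x by group)
      right_inv := fun x => Subtype.ext (show u * (u⁻¹ * (x : G) * u) * u⁻¹ = x by group)
      map_mul' := fun a b => Subtype.ext
        (show u * ((a : G) * b) * u⁻¹ = u * a * u⁻¹ * (u * b * u⁻¹) by group) }
  obtain ⟨x, hx, rfl⟩ := hy
  have hle : (oddCore X).map e.toMonoidHom ≤ oddCore X :=
    ZStar.le_oddCore (Subgroup.Normal.map inferInstance _ e.surjective) (by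
      rw [← Nat.card_congr ((oddCore X).equivMapOfInjective _ e.injective).toEquiv]
      exact ZStar.odd_card_oddCore)
  exact ⟨e x, hle ⟨x, hx, rfl⟩, rfl⟩

/-- The product of two three-cycles sharing two points, the second obtained by conjugation. -/
theorem dt_ident {n : ℕ} (π y : Perm (Fin n)) (a b c f g : Fin n) (hπ : ∀ x, π x = rot a b c x)
    (hy : ∀ x, y x = rot c f g x) (h1 : a ≠ b) (h2 : a ≠ c) (h3 : a ≠ f) (h4 : a ≠ g) (h5 : b ≠ c) (h6 : b ≠ f)
    (h7 : b ≠ g) (h8 : c ≠ f) (h9 : c ≠ g) (h10 : f ≠ g) :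
    π * (y * π * y⁻¹) = swap b f * swap c a := by
  rw [← mul_assoc, mul_inv_eq_iff_eq_mul, mul_assoc]
  refine Equiv.ext fun x => ?_
  simp only [Perm.mul_apply, hπ, hy, rot]
  by_cases ha : x = a
  · subst ha; simp [*, Ne.symm h1, Ne.symm h2, Ne.symm h3, Ne.symm h4, Ne.symm h5, Ne.symm h6, Ne.symm h7,
      Ne.symm h8, Ne.symm h9, Ne.symm h10, swap_apply_def]
  by_cases hb : x = b
  · subst hb; simp [*, Ne.symm h1, Ne.symm h2, Ne.symm h3, Ne.symm h4, Ne.symm h5, Ne.symm h6, Ne.symm h7,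
      Ne.symm h8, Ne.symm h9, Ne.symm h10, swap_apply_def]
  by_cases hc : x = c
  · subst hc; simp [*, Ne.symm h1, Ne.symm h2, Ne.symm h3, Ne.symm h4, Ne.symm h5, Ne.symm h6, Ne.symm h7,
      Ne.symm h8, Ne.symm h9, Ne.symm h10, swap_apply_def]
  by_cases hf : x = f
  · subst hf; simp [*, Ne.symm h1, Ne.symm h2, Ne.symm h3, Ne.symm h4, Ne.symm h5, Ne.symm h6, Ne.symm h7,
      Ne.symm h8, Ne.symm h9, Ne.symm h10, swap_apply_def]
  by_cases hg : x = g
  · subst hg; simp [*, Ne.symm h1, Ne.symm h2, Ne.symm h3, Ne.symm h4, Ne.symm h5, Ne.symm h6, Ne.symm h7,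
      Ne.symm h8, Ne.symm h9, Ne.symm h10, swap_apply_def]
  simp [*, swap_apply_def]

variable {G : Type*} [Group G] [Finite G] {n : ℕ} {z : G} {K : Cov (centralizer ({z} : Set G)) n}
  {ψ : Cm ≃* eightG K}

set_option quotPrecheck false in
local notation "ℂz" => Subgroup.centralizer ({z} : Set G)

/-- An element of odd order is determined by its image. -/
theorem eq_of_cube {x y : centralizer ({z} : Set G)} (hx : x ^ 3 = 1) (hy : y ^ 3 = 1) (h : K.p x = K.p y) :
    x = y := by
  rcases K.eq_or_eq h with e | e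
  · exact e
  · exfalso
    have hc : Commute y K.s := K.comm y
    rw [e, hc.mul_pow, hy, one_mul, K.pow_s_odd (by decide)] at hx
    exact K.s1 hx

set_option maxHeartbeats 1600000 in
theorem no_fusion (D : Deg z K ψ) (hn : 9 ≤ n) (hn' : n ≤ 10) {g0 : G}
    (h0 : g0 * z * g0⁻¹ = dG ψ dV ∧ g0 * dG ψ dV * g0⁻¹ = z) : False := by
  classical
  obtain ⟨i, H⟩ := (D.pre hn').exists_cfg h0
  obtain ⟨φ, hφ, hφℂz⟩ := H.embed
  set M := φ.range with hM
  have hz1 : z ≠ 1 := fun e => K.s1 (Subtype.ext (D.cs.trans e))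
  have hzz := D.inv
  have hz2 : orderOf z = 2 := orderOf_eq_prime (by rw [pow_two, hzz]) hz1
  have hzi : z⁻¹ = z := inv_eq_of_mul_eq_one_left hzz
  -- the copy meets the centralizer in the part of degree eight
  have htK : φ MclInv.tK = z := by
    obtain ⟨k, hk, e⟩ := hφℂz _ MclInv.cent_le.2.2.1
    rw [D.psiT] at e
    rwa [show MclInv.tK = k from (Subtype.ext hk).symm]
  have hME : ∀ y : ℂz, (y : G) ∈ M → y ∈ eightPart K := by
    rintro y ⟨k, hk⟩
    have hkc : k ∈ centralizer ({MclInv.tK} : Set ↥MclInv.KK) := by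
      refine mem_centralizer_singleton_iff.2 (hφ ?_)
      rw [map_mul, map_mul, htK, hk]
      exact mem_centralizer_singleton_iff.1 y.2
    obtain ⟨k', hk', e⟩ := hφℂz _ ((MclInv.centralizer_eq k).1 hkc)
    rw [show k' = k from Subtype.ext hk', hk] at e
    exact mem_eightG.1 (e ▸ ext_mem ψ ((MclInv.centralizer_eq k).1 hkc))
  have hEM : ∀ y : ℂz, y ∈ eightPart K → (y : G) ∈ M := fun y hy => by
    obtain ⟨g, hg, e⟩ := ext_surj ψ (mem_eightG.2 hy)
    obtain ⟨k, -, e'⟩ := hφℂz g hg
    exact ⟨k, e'.trans e⟩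
  let a : ℕ → G := fun k => if h : k < 6 then φ ⟨nP k, nP_KK h⟩ else 1
  have haM : ∀ k, a k ∈ M := fun k => by
    simp only [a]; split
    exacts [⟨_, rfl⟩, one_mem _]
  have ha : ∀ {k} (h : k < 6), a k = φ ⟨nP k, nP_KK h⟩ := fun {k} h => by simp only [a]; rw [dif_pos h]
  have hmul : ∀ {j k} (hj : j < 6) (hk : k < 6), a j * a k = φ (⟨nP j, nP_KK hj⟩ * ⟨nP k, nP_KK hk⟩) :=
    fun hj hk => by rw [map_mul, ha hj, ha hk]
  -- the three-cycle and an element of order five
  set c := a 0 with hc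
  obtain ⟨cC, hcC, hcm⟩ := exists_toC (ψ := ψ) (nP_cm (k := 0) (by norm_num))
  obtain ⟨fC, hfC, hfm⟩ := exists_toC (ψ := ψ) (nP_cm (k := 1) (by norm_num))
  have hcG : (cC : G) = c := by
    obtain ⟨k, hk, e⟩ := hφℂz _ (nP_cm (k := 0) (by norm_num))
    rw [hcC, ← e, hc, ha (by norm_num)]
    exact congrArg φ (Subtype.ext hk)
  have hc3 : c ^ 3 = 1 := by
    rw [hc, ha (by norm_num), ← map_pow, ← map_one φ]
    exact congrArg φ (Subtype.ext (cube_nP (by simp)))
  have hc1 : c ≠ 1 := fun e => nP_ne.1 (by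
    rw [hc, ha (by norm_num), ← map_one φ] at e
    exact congrArg Subtype.val (hφ e))
  have hcC3 : cC ^ 3 = 1 := Subtype.ext (show (cC : G) ^ 3 = 1 by rw [hcG, hc3])
  have hfC5 : fC ^ 5 = 1 := Subtype.ext (show (fC : G) ^ 5 = 1 by
    rw [hfC, pow_succ, pow_succ, pow_succ, pow_succ, pow_one]
    have hm := nP_cm (k := 1) (by norm_num)
    rw [← ext_mul ψ hm hm, ← ext_mul ψ (mul_mem hm hm) hm, ← ext_mul ψ (mul_mem (mul_mem hm hm) hm) hm,
      ← ext_mul ψ (mul_mem (mul_mem (mul_mem hm hm) hm) hm) hm, ← ext_one ψ]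
    congr 1
    rw [← five_nP, pow_succ, pow_succ, pow_succ, pow_succ, pow_one])
  have odd_ne : ∀ {y : ℂz} {m : ℕ}, Odd m → y ^ m = 1 → y ≠ 1 → K.p y ≠ 1 := by
    intro y m hm hy hy1 e
    rcases K.ker y e with h | h
    · exact hy1 h
    · rw [h, K.pow_s_odd hm] at hy; exact K.s1 hy
  have hcC1 : cC ≠ 1 := fun e => hc1 (by rw [← hcG, e]; rfl)
  have hfC1 : fC ≠ 1 := fun e => nP_ne.2.1 (ext_inj ψ (nP_cm (by norm_num)) (one_mem _) (by
    rw [← hfC, e, ext_one]; rfl))
  set π := K.p cC with hπdef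
  have hπ1 : π ≠ 1 := odd_ne (by decide) hcC3 hcC1
  have hπ3 : π ^ 3 = 1 := by rw [hπdef, ← map_pow, hcC3, map_one]
  set F := Finset.univ.filter fun j : Fin n => (j : ℕ) < 8 with hFdef
  have hF8 : F.card ≤ 8 := by
    have := Finset.card_le_card_of_injOn (s := F) (t := Finset.range 8) (fun j => (j : ℕ))
      (fun j hj => Finset.mem_range.2 (Finset.mem_filter.1 hj).2) Fin.val_injective.injOn
    simpa using this
  have hsuppF : ∀ y : ℂz, y ∈ eightPart K → (K.p y).support ⊆ F := fun y hy j hj =>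
    Finset.mem_filter.2 ⟨Finset.mem_univ _, not_le.1 fun h => Perm.mem_support.1 hj (hy j h)⟩
  have hcf : cC * fC = fC * cC := Subtype.ext (show (cC : G) * fC = fC * cC by
    rw [hcC, hfC, ← ext_mul ψ (nP_cm (by norm_num)) (nP_cm (by norm_num)),
      ← ext_mul ψ (nP_cm (by norm_num)) (nP_cm (by norm_num)), comm_c (k := 1) (by simp)])
  set S := π.support with hSdef
  have hS3 : S.card = 3 := three_of_commute F hF8 hπ3 (by rw [← map_pow, hfC5, map_one]) hπ1
    (odd_ne (by decide) hfC5 hfC1) (by rw [hπdef, ← map_mul, hcf, map_mul]) (hsuppF _ hcm) (hsuppF _ hfm)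
  obtain ⟨p0, hp0⟩ := Finset.card_pos.1 (show 0 < S.card by omega)
  have hπcyc : π.IsCycle := (card_support_eq_three_iff.1 hS3).isCycle
  have hπa : π p0 ≠ p0 := Perm.mem_support.1 hp0
  have hπ3' : π (π (π p0)) = p0 := by
    rw [← Perm.mul_apply, ← Perm.mul_apply, show π * π * π = π ^ 3 by rw [pow_succ, pow_two], hπ3, Perm.one_apply]
  have hS : ∀ x, x ∈ S ↔ x = p0 ∨ x = π p0 ∨ x = π (π p0) := by
    intro x
    have h2 : π (π p0) ≠ π p0 := fun e => hπa (π.injective e)
    have h3 : π (π p0) ≠ p0 := fun e => hπa (by rw [e] at hπ3'; exact hπ3')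
    have hsub : ({p0, π p0, π (π p0)} : Finset (Fin n)) ⊆ S := by
      intro w hw
      simp only [Finset.mem_insert, Finset.mem_singleton] at hw
      rcases hw with rfl | rfl | rfl
      exacts [hp0, Perm.apply_mem_support.2 hp0, Perm.apply_mem_support.2 (Perm.apply_mem_support.2 hp0)]
    have he := Finset.eq_of_subset_of_card_le hsub (by
      rw [hS3, Finset.card_insert_of_notMem (by simp [Ne.symm hπa, Ne.symm h3]),
        Finset.card_pair (Ne.symm h2)])
    rw [← he]
    simp
  -- the centralizer of the three-cycle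
  set X := centralizer ({c} : Set G) with hX
  have hXc : ∀ {x : G}, x ∈ X → x * c = c * x := fun h => mem_centralizer_singleton_iff.1 h
  have hzc : z * c = c * z := by
    rw [← hcG]; exact (mem_centralizer_singleton_iff.1 cC.2).symm
  let zX : X := ⟨z, mem_centralizer_singleton_iff.2 hzc⟩
  have hcoe2 : ∀ (Y : Subgroup G) (y : Y), (y : G) = z → orderOf y = 2 := fun Y y e => by
    rw [← Subgroup.orderOf_coe, e, hz2]
  have hnotS : ∀ y : ℂz, (y : G) ∈ X → y * y = 1 → y ≠ 1 → y ≠ K.s → False := by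
    intro y hyX hyy y1 y2
    have hcomm : K.p y * π = π * K.p y := by
      rw [hπdef, ← map_mul, ← map_mul]
      congr 1
      refine Subtype.ext ?_
      show (y : G) * cC = cC * y
      rw [hcG]; exact hXc hyX
    have hfix : ∀ x ∈ S, K.p y x = x := by
      intro x hx
      have hyx : K.p y x ∈ S := by
        rw [hSdef, Perm.mem_support] at hx ⊢
        rw [← Perm.mul_apply, ← hcomm, Perm.mul_apply]
        exact fun e => hx ((K.p y).injective e)
      have hinv : K.p y (K.p y x) = x := by rw [← Perm.mul_apply, ← map_mul, hyy, map_one, Perm.one_apply]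
      have hpc : ∀ w, K.p y (π w) = π (K.p y w) := fun w => by
        rw [← Perm.mul_apply, hcomm, Perm.mul_apply]
      have hne : π x ≠ x := Perm.mem_support.1 hx
      have hx3 : π (π (π x)) = x := by
        rw [← Perm.mul_apply, ← Perm.mul_apply, show π * π * π = π ^ 3 by rw [pow_succ, pow_two], hπ3,
          Perm.one_apply]
      have hor : K.p y x = x ∨ K.p y x = π x ∨ K.p y x = π (π x) := by
        rw [hS] at hx hyx
        rcases hx with rfl | rfl | rfl <;> rcases hyx with e | e | e <;> simp only [e, hπ3'] <;> tauto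
      rcases hor with e | e | e
      · exact e
      · rw [e, hpc, e] at hinv
        rw [hinv] at hx3
        exact absurd hx3 hne
      · exfalso
        rw [e, hpc, hpc, e, hx3] at hinv
        exact hne hinv
    have h8 := D.support_eight hyy y1 y2
    have hdis : Disjoint (K.p y).support S := Finset.disjoint_left.2 fun x hx hxS =>
      Perm.mem_support.1 hx (hfix x hxS)
    have h := Finset.card_le_univ ((K.p y).support ∪ S)
    rw [Finset.card_union_of_disjoint hdis, h8, hS3, Fintype.card_fin] at h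
    omega
  have conj_facts : ∀ g : G, g * z * g⁻¹ * z = z * (g * z * g⁻¹) → g * z * g⁻¹ ≠ z →
      ∃ y : ℂz, (y : G) = g * z * g⁻¹ ∧ y * y = 1 ∧ y ≠ 1 ∧ y ≠ K.s := by
    intro g hg hne
    refine ⟨⟨_, mem_centralizer_singleton_iff.2 hg⟩, rfl, Subtype.ext ?_, fun e => hz1 ?_, fun e => hne ?_⟩
    · show g * z * g⁻¹ * (g * z * g⁻¹) = 1
      rw [conj_mul, hzz, mul_one, mul_inv_cancel]
    · exact conj_eq_one_iff.1 (congrArg Subtype.val e)
    · exact (congrArg Subtype.val e).trans D.cs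
  have hisoX : IsIsolatedInvolution zX := by
    refine ⟨hcoe2 X zX rfl, fun g hg => by_contra fun hne => ?_⟩
    obtain ⟨y, hy, h1, h2, h3⟩ := conj_facts g (congrArg Subtype.val hg.eq).symm fun e => hne (Subtype.ext e)
    exact hnotS y (hy ▸ (g * zX * g⁻¹).2) h1 h2 h3
  set O := (oddCore X).map X.subtype with hO
  have hOodd : Odd (Nat.card O) := by
    rw [hO, ← Nat.card_congr ((oddCore X).equivMapOfInjective _ X.subtype_injective).toEquiv]
    exact ZStar.odd_card_oddCore
  have hOX : O ≤ X := Subgroup.map_subtype_le _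
  have hOn : ∀ x ∈ X, ∀ y ∈ O, x * y * x⁻¹ ∈ O := by
    rintro x hx _ ⟨y, hy, rfl⟩
    exact ⟨_, (inferInstance : (oddCore X).Normal).conj_mem y hy ⟨x, hx⟩, rfl⟩
  have hzO : ∀ x ∈ X, z * x * z⁻¹ * x⁻¹ ∈ O := fun x hx =>
    ⟨_, ZStar.zStarHolds X zX hisoX ⟨x, hx⟩, rfl⟩
  have haX : ∀ k ∈ [0, 1, 2, 3, 4, 5], a k ∈ X := by
    intro k hk
    have hk6 : k < 6 := by simp at hk; omega
    rw [hX, mem_centralizer_singleton_iff, hc, hmul hk6 (by norm_num), hmul (by norm_num) hk6]
    by_cases h : k = 0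
    · subst h; rfl
    · exact congrArg φ (Subtype.ext (comm_c (k := k) (by simp at hk ⊢; omega)).symm)
  have hinva : ∀ k ∈ [2, 3, 4, 5], z * a k * z⁻¹ = a k * a k := by
    intro k hk
    have hk6 : k < 6 := by simp at hk; omega
    rw [hmul hk6 hk6, hzi, ha hk6, ← htK, ← map_mul, ← map_mul]
    exact congrArg φ (Subtype.ext (inv_tP hk))
  have haO : ∀ k ∈ [2, 3, 4, 5], a k ∈ O := by
    intro k hk
    have h := hzO (a k) (haX k (by simp at hk ⊢; omega))
    rwa [hinva k hk, mul_inv_cancel_right] at h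
  have hcomm24 : a 2 * a 4 = c * c * (a 4 * a 2) := by
    have h := comm_mixed (i := 0) (j := 0) (by norm_num) (by norm_num)
    rw [show nCom.getD (2 * 0 + 0) 0 = 2 by decide, pow_two] at h
    rw [hc, hmul (j := 0) (k := 0) (by norm_num) (by norm_num), hmul (by norm_num) (by norm_num),
      hmul (j := 4) (k := 2) (by norm_num) (by norm_num), ← map_mul]
    exact congrArg φ (Subtype.ext h)
  have hc_of : ∀ (W : Subgroup G), a 2 ∈ W → a 4 ∈ W → c ∈ W := by
    intro W h2 h4
    have e : c * c = a 2 * a 4 * (a 4 * a 2)⁻¹ := by rw [hcomm24, mul_inv_cancel_right]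
    have hcc : c * c ∈ W := e ▸ mul_mem (mul_mem h2 h4) (inv_mem (mul_mem h4 h2))
    have : c = c * c * (c * c) := by
      calc c = c * c ^ 3 := by rw [hc3, mul_one]
        _ = _ := by simp [pow_succ, mul_assoc]
    rw [this]; exact mul_mem hcc hcc
  have hcO : c ∈ O := hc_of O (haO 2 (by simp)) (haO 4 (by simp))
  -- the group of order `3 ^ 5`
  set P : Subgroup G := (nGrp.subgroupOf MclInv.KK).map φ with hP
  have hPM : P ≤ M := by
    rintro _ ⟨k, -, rfl⟩; exact ⟨k, rfl⟩
  have hPO : P ≤ O := by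
    have key : ∀ x : P275, x ∈ nGrp → ∃ h : x ∈ MclInv.KK, φ ⟨x, h⟩ ∈ O := by
      intro x hx
      induction hx using closure_induction with
      | mem y hy =>
        rcases hy with rfl | rfl | rfl | rfl | rfl
        · exact ⟨nP_KK (by norm_num), by rw [← ha (k := 0) (by norm_num)]; exact hcO⟩
        · exact ⟨nP_KK (by norm_num), by rw [← ha (k := 2) (by norm_num)]; exact haO _ (by simp)⟩
        · exact ⟨nP_KK (by norm_num), by rw [← ha (k := 3) (by norm_num)]; exact haO _ (by simp)⟩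
        · exact ⟨nP_KK (by norm_num), by rw [← ha (k := 4) (by norm_num)]; exact haO _ (by simp)⟩
        · exact ⟨nP_KK (by norm_num), by rw [← ha (k := 5) (by norm_num)]; exact haO _ (by simp)⟩
      | one => exact ⟨one_mem _, by rw [show (⟨1, one_mem _⟩ : MclInv.KK) = 1 from rfl, map_one]; exact one_mem O⟩
      | mul u v _ _ iu iv =>
        obtain ⟨hu, iu⟩ := iu; obtain ⟨hv, iv⟩ := iv
        exact ⟨mul_mem hu hv, by
          rw [show (⟨u * v, mul_mem hu hv⟩ : MclInv.KK) = ⟨u, hu⟩ * ⟨v, hv⟩ from rfl, map_mul]; exact mul_mem iu iv⟩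
      | inv u _ iu =>
        obtain ⟨hu, iu⟩ := iu
        exact ⟨inv_mem hu, by
          rw [show (⟨u⁻¹, inv_mem hu⟩ : MclInv.KK) = ⟨u, hu⟩⁻¹ from rfl, map_inv]; exact inv_mem iu⟩
    rintro _ ⟨k, hk, rfl⟩
    obtain ⟨_, h⟩ := key k.1 hk
    exact h
  have hP243 : 243 ∣ Nat.card P := by
    rw [hP, ← Nat.card_congr ((nGrp.subgroupOf MclInv.KK).equivMapOfInjective _ hφ).toEquiv,
      Nat.card_congr (Subgroup.subgroupOfEquivOfLe nGrp_le).toEquiv]
    exact card_nGrp
  -- an involution inverting the three-cycle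
  set R := Sᶜ with hR
  have hR6 : 6 ≤ R.card := by
    rw [hR, Finset.card_compl, hS3, Fintype.card_fin]; omega
  obtain ⟨ι⟩ := Function.Embedding.nonempty_of_card_le (α := Fin 6) (β := R) (by simpa using hR6)
  set e : Fin 6 → Fin n := fun j => (ι j : Fin n) with he
  have heS : ∀ j, e j ∉ S := fun j => Finset.mem_compl.1 (ι j).2
  have hei : ∀ j k, j ≠ k → e j ≠ e k := fun j k h h' => h (ι.injective (Subtype.ext h'))
  have hesS : ∀ j x, x ∈ S → e j ≠ x := fun j x hx h => heS j (h ▸ hx)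
  have mS : π p0 ∈ S ∧ π (π p0) ∈ S := ⟨(hS _).2 (Or.inr (Or.inl rfl)), (hS _).2 (Or.inr (Or.inr rfl))⟩
  have hp12 : π p0 ≠ π (π p0) := fun h => hπa (π.injective h.symm)
  obtain ⟨uC, huu, huc⟩ : ∃ u : ℂz, u * u = 1 ∧ K.p (u * cC * u⁻¹) = K.p cC⁻¹ := by
    have hd1 : IsDT (swap (π p0) (π (π p0)) * swap (e 0) (e 1)) :=
      ⟨_, _, _, _, hp12, hei _ _ (by decide), (hesS 0 _ mS.1).symm, (hesS 1 _ mS.1).symm, (hesS 0 _ mS.2).symm,
        (hesS 1 _ mS.2).symm, rfl⟩
    have hd2 : IsDT (swap (e 2) (e 3) * swap (e 4) (e 5)) :=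
      ⟨_, _, _, _, hei _ _ (by decide), hei _ _ (by decide), hei _ _ (by decide), hei _ _ (by decide),
        hei _ _ (by decide), hei _ _ (by decide), rfl⟩
    obtain ⟨u1, hu1⟩ := K.surj _ (sign_dt hd1)
    obtain ⟨u2, hu2⟩ := K.surj _ (sign_dt hd2)
    have hfix : ∀ w, (w = π p0 ∨ w = π (π p0) ∨ w = e 0 ∨ w = e 1) → K.p u2 w = w := by
      intro w hw
      rw [hu2, Perm.mul_apply]
      have := hesS 2 _ mS.1; have := hesS 3 _ mS.1; have := hesS 4 _ mS.1; have := hesS 5 _ mS.1
      have := hesS 2 _ mS.2; have := hesS 3 _ mS.2; have := hesS 4 _ mS.2; have := hesS 5 _ mS.2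
      have := hei 0 2 (by decide); have := hei 0 3 (by decide); have := hei 0 4 (by decide)
      have := hei 0 5 (by decide); have := hei 1 2 (by decide); have := hei 1 3 (by decide)
      have := hei 1 4 (by decide); have := hei 1 5 (by decide)
      simp only [swap_apply_def]
      grind
    have hcm' : Commute u1 u2 := K.comm_of_fix hp12 (hei _ _ (by decide)) (hesS 0 _ mS.1).symm
      (hesS 1 _ mS.1).symm (hesS 0 _ mS.2).symm (hesS 1 _ mS.2).symm hu1 (hfix _ (Or.inl rfl))
      (hfix _ (Or.inr (Or.inl rfl))) (hfix _ (Or.inr (Or.inr (Or.inl rfl)))) (hfix _ (Or.inr (Or.inr (Or.inr rfl))))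
    refine ⟨u1 * u2, ?_, ?_⟩
    · rw [hcm'.symm.mul_mul_mul_comm, K.four u1 (hu1 ▸ hd1), K.four u2 (hu2 ▸ hd2), K.ss]
    · rw [map_mul, map_mul, map_inv, map_inv, mul_inv_eq_iff_eq_mul, eq_inv_mul_iff_mul_eq, ← hπdef, map_mul,
        hu1, hu2]
      have hout : ∀ x, x ∉ S → π x = x := fun x hx => Perm.notMem_support.1 hx
      have := hout _ (heS 0); have := hout _ (heS 1); have := hout _ (heS 2); have := hout _ (heS 3)
      have := hout _ (heS 4); have := hout _ (heS 5)
      set δ := swap (π p0) (π (π p0)) * swap (e 0) (e 1) * (swap (e 2) (e 3) * swap (e 4) (e 5)) with hδ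
      have d0 : δ p0 = p0 := by
        simp only [hδ, Perm.mul_apply, swap_apply_def]
        have := hesS 0 _ hp0; have := hesS 1 _ hp0; have := hesS 2 _ hp0; have := hesS 3 _ hp0
        have := hesS 4 _ hp0; have := hesS 5 _ hp0
        grind
      have hoth : ∀ w ∈ S, (swap (e 0) (e 1) * (swap (e 2) (e 3) * swap (e 4) (e 5))) w = w := by
        intro w hw
        simp only [Perm.mul_apply, swap_apply_of_ne_of_ne (hesS 4 w hw).symm (hesS 5 w hw).symm,
          swap_apply_of_ne_of_ne (hesS 2 w hw).symm (hesS 3 w hw).symm,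
          swap_apply_of_ne_of_ne (hesS 0 w hw).symm (hesS 1 w hw).symm]
      have d1 : δ (π p0) = π (π p0) := by
        rw [hδ, mul_assoc, Perm.mul_apply, hoth _ mS.1, swap_apply_left]
      have d2 : δ (π (π p0)) = π p0 := by
        rw [hδ, mul_assoc, Perm.mul_apply, hoth _ mS.2, swap_apply_right]
      have dout : ∀ x, x ∉ S → δ x ∉ S := by
        intro x hx h
        rcases (hS _).1 h with h' | h' | h'
        · exact hx (by rw [δ.injective (h'.trans d0.symm)]; exact hp0)
        · exact hx (by rw [δ.injective (h'.trans d2.symm)]; exact mS.2)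
        · exact hx (by rw [δ.injective (h'.trans d1.symm)]; exact mS.1)
      refine Equiv.ext fun x => ?_
      simp only [Perm.mul_apply (f := π), Perm.mul_apply (f := δ)]
      by_cases hx : x ∈ S
      · rcases (hS x).1 hx with rfl | rfl | rfl <;> simp only [d0, d1, d2, hπ3']
      · rw [hout x hx, hout _ (dout x hx)]
  set u := (uC : G) with hu
  have huuG : u * u = 1 := congrArg Subtype.val huu
  have hucG : u * c * u⁻¹ = c⁻¹ := by
    have : uC * cC * uC⁻¹ = cC⁻¹ :=
      eq_of_cube (by rw [conj_pow, hcC3, mul_one, mul_inv_cancel]) (by rw [inv_pow, hcC3, inv_one]) huc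
    rw [← hcG]
    exact congrArg Subtype.val this
  have hzu : u * z = z * u := mem_centralizer_singleton_iff.1 uC.2
  have hcinv : u * c⁻¹ * u⁻¹ = c := by
    rw [show u * c⁻¹ * u⁻¹ = (u * c * u⁻¹)⁻¹ by group, hucG, inv_inv]
  have huX : ∀ x, x ∈ X ↔ u * x * u⁻¹ ∈ X := fun x => by
    rw [hX, mem_centralizer_singleton_iff, mem_centralizer_singleton_iff]
    constructor
    · intro h
      calc u * x * u⁻¹ * c = u * x * u⁻¹ * (u * c⁻¹ * u⁻¹) := by rw [hcinv]
        _ = u * (x * c⁻¹) * u⁻¹ := by group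
        _ = u * (c⁻¹ * x) * u⁻¹ := by rw [((show Commute x c from h).inv_right).eq]
        _ = u * c⁻¹ * u⁻¹ * (u * x * u⁻¹) := by group
        _ = c * (u * x * u⁻¹) := by rw [hcinv]
    · intro h
      have h' : Commute (u * x * u⁻¹) c⁻¹ := (show Commute _ c from h).inv_right
      rw [← hucG] at h'
      exact mul_left_cancel (mul_right_cancel (show u * (x * c) * u⁻¹ = u * (c * x) * u⁻¹ by
        rw [← conj_mul, ← conj_mul]; exact h'.eq))
  have hzOz : ∀ x ∈ O, z * x * z⁻¹ ∈ O := fun x hx => hOn z (mem_centralizer_singleton_iff.2 hzc) x hx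
  have huOu : ∀ x ∈ O, u * x * u⁻¹ ∈ O := fun x hx => conj_mem_oddCore_map X huX hx
  -- elements of the core centralizing `z`
  have hOC : ∀ y : ℂz, (y : G) ∈ O → y = 1 ∨ y = cC ∨ y = cC * cC := by
    let L : alternatingGroup R →* Perm (Fin n) := Perm.ofSubtype.comp (alternatingGroup R).subtype
    have hL : ∀ δ x, x ∉ R → L δ x = x := fun δ x hx => Perm.ofSubtype_apply_of_not_mem _ hx
    have hLm : ∀ g : Perm (Fin n), (∀ x ∉ R, g x = x) → Perm.sign g = 1 → ∃ δ, L δ = g := by
      intro g hg hs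
      have hst : ∀ x, g x ∈ R ↔ x ∈ R := fun x => by
        constructor
        · intro h; by_contra hx; rw [hg x hx] at h; exact hx h
        · intro h; by_contra hx; exact hx (by rw [g.injective (hg _ hx)]; exact h)
      have hof : Perm.ofSubtype (g.subtypePerm hst) = g := Equiv.ext fun x => by
        by_cases hx : x ∈ R
        · rw [Perm.ofSubtype_apply_of_mem (p := (· ∈ R)) _ hx]; rfl
        · rw [Perm.ofSubtype_apply_of_not_mem _ hx, hg x hx]
      exact ⟨⟨g.subtypePerm hst, mem_alternatingGroup.2 (by rw [← Perm.sign_ofSubtype, hof, hs])⟩, hof⟩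
    set Oc := O.subgroupOf ℂz with hOc
    set Ni := Oc.map K.p with hNi
    have hlift : ∀ δ, ∃ d : ℂz, K.p d = L δ ∧ (d : G) ∈ X := by
      intro δ
      obtain ⟨d, hd⟩ := K.surj (L δ) (by
        show Perm.sign (Perm.ofSubtype _) = 1
        rw [Perm.sign_ofSubtype]
        exact mem_alternatingGroup.1 δ.2)
      have hcd : Commute cC d := K.comm_of_odd (Cov.odd_of_pow (by decide) hcC3) (by
        rw [hd]
        refine (Perm.Disjoint.commute fun x => ?_)
        by_cases hx : x ∈ R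
        · exact Or.inl (Perm.notMem_support.1 (Finset.mem_compl.1 hx))
        · exact Or.inr (hL δ x hx))
      refine ⟨d, hd, mem_centralizer_singleton_iff.2 ?_⟩
      rw [← hcG]
      exact (congrArg Subtype.val hcd.eq).symm
    set N := Ni.comap L with hN
    have hNn : N.Normal := by
      refine ⟨fun x hx δ => ?_⟩
      obtain ⟨y, hy, hyx⟩ := mem_map.1 (mem_comap.1 hx)
      obtain ⟨d, hd, hdX⟩ := hlift δ
      refine mem_comap.2 (mem_map.2 ⟨d * y * d⁻¹, hOn _ hdX _ hy, ?_⟩)
      rw [map_mul, map_mul, map_inv, map_mul, map_mul, map_inv, hd, hyx]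
    have hNodd : Odd (Nat.card N) := by
      refine hOodd.of_dvd_nat (dvd_trans (Subgroup.card_dvd_of_injective
        ((L.comp N.subtype).codRestrict Ni fun x => x.2) ?_) ((Subgroup.card_map_dvd _ _).trans ?_))
      · intro x y h
        have := congrArg Subtype.val h
        exact Subtype.ext (Subtype.ext (Perm.ofSubtype_injective this))
      · exact Subgroup.card_dvd_of_injective
          (((centralizer ({z} : Set G)).subtype.comp Oc.subtype).codRestrict O fun x => x.2)
          fun x y h => Subtype.ext (Subtype.ext (congrArg (fun w : O => (w : G)) h))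
    have hR5 : 5 ≤ Nat.card R := by simp; omega
    have hbot : N = ⊥ := by
      haveI := alternatingGroup.isSimpleGroup hR5
      rcases hNn.eq_bot_or_eq_top with h | h
      · exact h
      · exfalso
        haveI : Nontrivial R := Finite.one_lt_card_iff_nontrivial.1 (by omega)
        rw [h, Subgroup.card_top] at hNodd
        have h2 := two_mul_nat_card_alternatingGroup (α := R)
        have h4 : 4 ∣ Nat.card (Perm R) := by
          rw [Nat.card_perm]
          exact Nat.dvd_factorial (by norm_num) (by omega)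
        obtain ⟨k, hk⟩ := hNodd
        omega
    intro y hy
    have hcomm : K.p y * π = π * K.p y := by
      rw [hπdef, ← map_mul, ← map_mul]
      congr 1
      refine Subtype.ext ?_
      show (y : G) * cC = cC * y
      rw [hcG]; exact hXc (hOX hy)
    set σ := K.p y with hσ
    have hσS : ∀ x, σ x ∈ S ↔ x ∈ S := fun x => by
      rw [hSdef, Perm.mem_support, Perm.mem_support, ← Perm.mul_apply, ← hcomm, Perm.mul_apply]
      exact σ.injective.ne_iff
    have hcent : ∀ δ, σ * L δ * σ⁻¹ = L δ := by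
      intro δ
      obtain ⟨d, hd, hdX⟩ := hlift δ
      obtain ⟨δ', hδ'⟩ := hLm (σ * L δ * σ⁻¹ * (L δ)⁻¹) (fun x hx => by
        rw [Perm.mul_apply, show (L δ)⁻¹ x = x from (L δ).symm_apply_eq.2 (hL δ x hx).symm, Perm.mul_apply,
          Perm.mul_apply, hL δ]
        · exact σ.apply_symm_apply x
        · intro h
          refine hx (Finset.mem_compl.2 fun hxS => Finset.mem_compl.1 h ?_)
          exact (hσS _).1 (by rw [Perm.inv_def, Equiv.apply_symm_apply]; exact hxS)) (by
        rw [map_mul, map_mul, map_mul, map_inv, map_inv]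
        rw [mul_comm (Perm.sign σ) _, mul_assoc (Perm.sign (L δ)), mul_inv_cancel, mul_one, mul_inv_cancel])
      have hmem : δ' ∈ N := by
        refine mem_comap.2 (mem_map.2 ⟨y * (d * y⁻¹ * d⁻¹), mul_mem (show (y : G) ∈ O from hy)
          (show (d : G) * (y : G)⁻¹ * (d : G)⁻¹ ∈ O from hOn _ hdX _ (inv_mem hy)), ?_⟩)
        rw [hδ', map_mul, map_mul, map_mul, map_inv, map_inv, hd, ← hσ]
        group
      rw [hbot, mem_bot] at hmem
      rw [hmem, map_one] at hδ'
      exact mul_inv_eq_one.1 hδ'.symm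
    have hfixR : ∀ x ∈ R, σ x = x := by
      intro x hx
      by_contra hne
      obtain ⟨p, hp, q, hq, hpq⟩ := Finset.one_lt_card.1 (show 1 < (R \ {x, σ x}).card by
        have h1 := Finset.le_card_sdiff {x, σ x} R
        have h2 : ({x, σ x} : Finset (Fin n)).card ≤ 2 := Finset.card_le_two
        omega)
      simp only [Finset.mem_sdiff, Finset.mem_insert, Finset.mem_singleton, not_or] at hp hq
      have hxp : x ≠ p := Ne.symm hp.2.1
      have hxq : x ≠ q := Ne.symm hq.2.1
      obtain ⟨δ, hδ⟩ := hLm (cyc3 x p q) (fun w hw => by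
        rw [cyc3_apply hxp hxq hpq, rot, if_neg fun h => hw (by rw [h]; exact hx),
          if_neg fun h => hw (by rw [h]; exact hp.1), if_neg fun h => hw (by rw [h]; exact hq.1)]) (by
        rw [cyc3, map_mul, Perm.sign_swap hxp, Perm.sign_swap hpq]; rfl)
      have h := congrArg (fun f : Perm (Fin n) => f (σ x)) (hcent δ)
      simp only [Perm.mul_apply, Perm.inv_def, Equiv.symm_apply_apply, hδ, cyc3_apply hxp hxq hpq, rot,
        if_pos] at h
      rw [if_neg hne, if_neg fun h' => hp.2.2 h'.symm, if_neg fun h' => hq.2.2 h'.symm] at h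
      exact hp.2.1 (σ.injective h)
    have hyodd : Odd (orderOf y) := by
      rw [← Subgroup.orderOf_coe]
      exact hOodd.of_dvd_nat (orderOf_dvd_natCard _ hy)
    have hdet : ∀ w : ℂz, Odd (orderOf w) → σ = K.p w → y = w := by
      intro w hw hyw
      rcases K.eq_or_eq hyw with h | h
      · exact h
      · exfalso
        have hc' : Commute w K.s := K.comm w
        have h1 : y ^ (orderOf y * orderOf w) = 1 := by rw [pow_mul, pow_orderOf_eq_one, one_pow]
        rw [h, hc'.mul_pow, pow_mul', pow_orderOf_eq_one, one_pow, one_mul,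
          K.pow_s_odd ((h ▸ hyodd).mul hw)] at h1
        exact K.s1 h1
    have hσπ : ∀ x, σ (π x) = π (σ x) := fun x => by rw [← Perm.mul_apply, hcomm, Perm.mul_apply]
    have hext : ∀ k : ℕ, σ p0 = (π ^ k) p0 → σ = π ^ k := by
      intro k hk
      refine Equiv.ext fun x => ?_
      by_cases hx : x ∈ S
      · have hck : ∀ w, (π ^ k) (π w) = π ((π ^ k) w) := fun w => by
          rw [← Perm.mul_apply, ← pow_succ, pow_succ', Perm.mul_apply]
        rcases (hS x).1 hx with rfl | rfl | rfl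
        · exact hk
        · rw [hσπ, hk, hck]
        · rw [hσπ, hσπ, hk, hck, hck]
      · rw [hfixR x (Finset.mem_compl.2 hx)]
        exact (Perm.notMem_support.1 fun h => hx (Perm.support_pow_le π k h)).symm
    rcases (hS (σ p0)).1 ((hσS p0).2 hp0) with h | h | h
    · exact Or.inl (hdet 1 (by simp) (by rw [map_one]; simpa using hext 0 (by simpa using h)))
    · refine Or.inr (Or.inl (hdet cC (Cov.odd_of_pow (by decide) hcC3) ?_))
      have := hext 1 (by simpa using h)
      rwa [pow_one, hπdef] at this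
    · refine Or.inr (Or.inr (hdet (cC * cC) (Cov.odd_of_pow (m := 3) (by decide) ?_) ?_))
      · rw [← pow_two, ← pow_mul, mul_comm, pow_mul, hcC3, one_pow]
      · have := hext 2 (by simpa [pow_two] using h)
        rwa [pow_two, hπdef, ← map_mul] at this
  have hfixz : ∀ x ∈ O, z * x * z⁻¹ = x → x = 1 ∨ x = c ∨ x = c * c := by
    intro x hx e
    have hxC : x * z = z * x := (mul_inv_eq_iff_eq_mul.1 e).symm
    rcases hOC ⟨x, mem_centralizer_singleton_iff.2 hxC⟩ hx with h | h | h <;> replace h := congrArg Subtype.val h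
    · exact Or.inl h
    · exact Or.inr (Or.inl (h.trans hcG))
    · exact Or.inr (Or.inr (h.trans (by show (cC : G) * cC = _; rw [hcG])))
  have h1' : ∀ x ∈ O, z * x * z⁻¹ = x → u * x * u⁻¹ = x → x = 1 := by
    intro x hx e e'
    rcases hfixz x hx e with rfl | rfl | rfl
    · rfl
    · rw [hucG] at e'
      exfalso; refine hc1 ?_
      calc c = c * (c * c⁻¹) := by group
        _ = c * (c * c) := by rw [e']
        _ = c ^ 3 := by rw [pow_succ, pow_two, mul_assoc]
        _ = 1 := hc3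
    · rw [show u * (c * c) * u⁻¹ = u * c * u⁻¹ * (u * c * u⁻¹) by group, hucG] at e'
      exfalso; refine hc1 ?_
      have h4 : c ^ 4 = 1 := by
        calc c ^ 4 = c * c * (c * c) := by simp [pow_succ, mul_assoc]
          _ = c * c * (c⁻¹ * c⁻¹) := by rw [e']
          _ = 1 := by group
      calc c = c * c ^ 3 := by rw [hc3, mul_one]
        _ = c ^ 4 := (pow_succ' c 3).symm
        _ = 1 := h4
  have hcard := card_four hOodd hzz huuG hzu hzOz huOu h1'
  have hcardz : Nat.card ↥(O ⊓ centralizer ({z} : Set G)) ≤ 3 := by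
    let f : Fin 3 → ↥(O ⊓ centralizer ({z} : Set G)) := fun k =>
      ⟨c ^ (k : ℕ), pow_mem hcO _, pow_mem (mem_centralizer_singleton_iff.2 hzc.symm) _⟩
    refine (Nat.card_le_card_of_surjective f fun x => ?_).trans (by simp)
    rcases hfixz x x.2.1 (by rw [← mem_centralizer_singleton_iff.1 x.2.2, mul_inv_cancel_right]) with h | h | h
    · exact ⟨0, Subtype.ext (by rw [h]; exact pow_zero c)⟩
    · exact ⟨1, Subtype.ext (by rw [h]; exact pow_one c)⟩
    · exact ⟨2, Subtype.ext (by rw [h]; exact pow_two c)⟩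
  have hbound : ∀ w : G, w * w = 1 → w * z = z * w → w ≠ z → w ≠ 1 →
      (∀ x ∈ O, w * x * w⁻¹ = x → z * x * z⁻¹ = x⁻¹) → Nat.card ↥(O ⊓ centralizer ({w} : Set G)) ≤ 25 := by
    intro w hww hwz hwne hw1 hinv
    obtain ⟨d, hd, hd'⟩ := D.conj_V hww hwz hwne hw1
    set h := g0 * d with hh
    have hw' : h * w * h⁻¹ = z := by
      calc h * w * h⁻¹ = g0 * (d * w * d⁻¹) * g0⁻¹ := by rw [hh]; group
        _ = z := by rw [hd', h0.2]
    have hmap : ∀ x : ↥(O ⊓ centralizer ({w} : Set G)), h * (x : G) * h⁻¹ ∈ ℂz := fun x => by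
      rw [mem_centralizer_singleton_iff, ← hw', conj_mul, conj_mul,
        mem_centralizer_singleton_iff.1 x.2.2]
    let f : ↥(O ⊓ centralizer ({w} : Set G)) →* Perm (Fin n) :=
      K.p.comp (((MulAut.conj h).toMonoidHom.comp (O ⊓ centralizer ({w} : Set G)).subtype).codRestrict ℂz hmap)
    have hfinj : Function.Injective f := by
      refine (injective_iff_map_eq_one f).2 fun x hx => ?_
      have hodd : Odd (orderOf x) :=
        hOodd.of_dvd_nat (by rw [← Subgroup.orderOf_coe]; exact orderOf_dvd_natCard _ x.2.1)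
      rcases K.ker _ hx with e | e
      · exact Subtype.ext (conj_eq_one_iff.1 (congrArg Subtype.val e))
      · exfalso
        have e' := congrArg (fun y : ℂz => y ^ orderOf x) e
        simp only [← map_pow, pow_orderOf_eq_one, map_one, K.pow_s_odd hodd] at e'
        exact K.s1 e'.symm
    have hcw : ∀ x : ↥(O ⊓ centralizer ({w} : Set G)), w * (x : G) * w⁻¹ = x := fun x => by
      rw [← mem_centralizer_singleton_iff.1 x.2.2, mul_inv_cancel_right]
    have hvC : h * z * h⁻¹ ∈ ℂz := by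
      rw [mem_centralizer_singleton_iff]
      calc h * z * h⁻¹ * z = h * z * h⁻¹ * (h * w * h⁻¹) := by rw [hw']
        _ = h * w * h⁻¹ * (h * z * h⁻¹) := by rw [conj_mul, conj_mul, hwz]
        _ = _ := by rw [hw']
    set vv : ℂz := ⟨h * z * h⁻¹, hvC⟩ with hvv
    have v2 : vv * vv = 1 := Subtype.ext (by
      show h * z * h⁻¹ * (h * z * h⁻¹) = 1; rw [conj_mul, hzz, mul_one, mul_inv_cancel])
    have v1 : vv ≠ 1 := fun e => hz1 (conj_eq_one_iff.1 (congrArg Subtype.val e))
    have v3 : vv ≠ K.s := fun e => hwne (by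
      have e' : h * z * h⁻¹ = z := (congrArg Subtype.val e).trans D.cs
      have : h * z * h⁻¹ = h * w * h⁻¹ := e'.trans hw'.symm
      exact (mul_left_cancel (mul_right_cancel this)).symm)
    have hτinv : ∀ a ∈ f.range, K.p vv * a * (K.p vv)⁻¹ = a⁻¹ := by
      rintro _ ⟨x, rfl⟩
      rw [← map_inv f, MonoidHom.comp_apply, MonoidHom.comp_apply, ← map_inv, ← map_mul, ← map_mul]
      congr 1
      refine Subtype.ext ?_
      show h * z * h⁻¹ * (h * (x : G) * h⁻¹) * (h * z * h⁻¹)⁻¹ = h * (x : G)⁻¹ * h⁻¹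
      rw [← hinv x x.2.1 (hcw x)]
      group
    have habel : ∀ a ∈ f.range, ∀ b ∈ f.range, a * b = b * a := by
      intro a ha b hb
      have e := hτinv _ (mul_mem ha hb)
      rw [← conj_mul, hτinv a ha, hτinv b hb, mul_inv_rev] at e
      have h : Commute a⁻¹ b⁻¹ := e
      simpa only [inv_inv] using h.inv_inv.eq
    have hcard' : Nat.card f.range = Nat.card ↥(O ⊓ centralizer ({w} : Set G)) :=
      Nat.card_congr (MonoidHom.ofInjective hfinj).toEquiv.symm
    rw [← hcard']
    have hfix : (Finset.univ.filter fun x => K.p vv x = x).card ≤ 2 := by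
      have h' := Finset.card_compl (K.p vv).support
      rw [D.support_eight v2 v1 v3, Fintype.card_fin] at h'
      have e : (Finset.univ.filter fun x => K.p vv x = x) = (K.p vv).supportᶜ := by ext x; simp
      rw [e, h']; omega
    exact card_le_bnd (K.p vv) (by rw [← map_mul, v2, map_one]) 10 (by norm_num) 2 (by norm_num) f.range
      Finset.univ (hcard' ▸ hOodd.of_dvd_nat (Subgroup.card_dvd_of_le inf_le_left)) habel hτinv
      (fun a _ x hx => absurd (Finset.mem_univ x) hx) (by simp; omega) hfix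
  have huz1 : u ≠ z := fun e => hc1 (by
    have h := hucG
    rw [e, hzc, mul_inv_cancel_right] at h
    calc c = c * (c * c⁻¹) := by group
      _ = c * (c * c) := by rw [← h]
      _ = c ^ 3 := by rw [pow_succ, pow_two, mul_assoc]
      _ = 1 := hc3)
  have hu1 : u ≠ 1 := fun e => huz1 (by
    exfalso
    have h := hucG
    rw [e, one_mul, inv_one, mul_one] at h
    refine hc1 ?_
    calc c = c * (c * c⁻¹) := by group
      _ = c * (c * c) := by rw [← h]
      _ = c ^ 3 := by rw [pow_succ, pow_two, mul_assoc]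
      _ = 1 := hc3)
  have hb1 := hbound u huuG hzu huz1 hu1 fun x hx e => inverted_of_fixed hOodd hzz hzu hzOz h1' hx e
  have hb2 := hbound (u * z) (by
      calc u * z * (u * z) = u * (z * u) * z := by group
        _ = (u * u) * (z * z) := by rw [← hzu]; group
        _ = 1 := by rw [huuG, hzz, one_mul])
    (by rw [mul_assoc, hzz, mul_one, ← mul_assoc, ← hzu, mul_assoc, hzz, mul_one])
    (fun e => hu1 (mul_eq_right.1 e)) (fun e => huz1 (by rw [eq_inv_of_mul_eq_one_left e, hzi]))
    fun x hx e => inverted_of_fixed hOodd hzz (u := u * z)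
      (by rw [mul_assoc, hzz, mul_one, ← mul_assoc, ← hzu, mul_assoc, hzz, mul_one]) hzOz
      (fun w hw e1 e2 => h1' w hw e1 (by
        calc u * w * u⁻¹ = u * (z * w * z⁻¹) * u⁻¹ := by rw [e1]
          _ = u * z * w * (u * z)⁻¹ := by group
          _ = w := e2)) hx e
  have hO243 : Nat.card O = 243 := by
    obtain ⟨k, hk⟩ := hP243.trans (Subgroup.card_dvd_of_le hPO)
    have hodd := hOodd
    rw [hk] at hodd
    obtain ⟨k', hk'⟩ := (Nat.odd_mul.1 hodd).2
    have : Nat.card O ≤ 3 * 25 * 25 := hcard ▸ Nat.mul_le_mul (Nat.mul_le_mul hcardz hb1) hb2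
    have hne : ∀ {W : Subgroup G}, 0 < Nat.card W := Nat.card_pos
    rcases (show k' = 0 ∨ k' = 1 ∨ k' = 2 ∨ k' = 3 by omega) with rfl | rfl | rfl | rfl
    · omega
    all_goals
      exfalso
      have h3 : Nat.card ↥(O ⊓ centralizer ({z} : Set G)) = 1 ∨ Nat.card ↥(O ⊓ centralizer ({z} : Set G)) = 2 ∨
          Nat.card ↥(O ⊓ centralizer ({z} : Set G)) = 3 := by
        have := hne (W := O ⊓ centralizer ({z} : Set G)); omega
      rw [hk, hk'] at hcard
      generalize Nat.card ↥(O ⊓ centralizer ({u} : Set G)) = b at hcard hb1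
      generalize Nat.card ↥(O ⊓ centralizer ({u * z} : Set G)) = b' at hcard hb2
      rcases h3 with h3 | h3 | h3 <;> rw [h3] at hcard <;> interval_cases b <;> omega
  have hOM : O ≤ M := by
    have h := Subgroup.eq_of_le_of_card_ge hPO (by
      rw [hO243]; exact Nat.le_of_dvd Nat.card_pos hP243)
    exact h ▸ hPM
  -- an element moving a point from outside
  have hF' : F.card = 8 := by
    refine le_antisymm hF8 ?_
    have := Finset.card_le_card_of_injOn (s := Finset.range 8) (t := F.image fun j : Fin n => (j : ℕ)) id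
      (fun j hj => Finset.mem_image.2 ⟨⟨j, by have := Finset.mem_range.1 hj; omega⟩,
        Finset.mem_filter.2 ⟨Finset.mem_univ _, Finset.mem_range.1 hj⟩, rfl⟩) Function.injective_id.injOn
    simpa using this.trans Finset.card_image_le
  obtain ⟨ν⟩ := Function.Embedding.nonempty_of_card_le (α := Fin 5) (β := ↥(F \ S)) (by
    have h1 := Finset.le_card_sdiff S F
    rw [Fintype.card_fin, Fintype.card_coe]; omega)
  set q : Fin 5 → Fin n := fun j => (ν j : Fin n) with hq
  have hqF : ∀ j, (q j : ℕ) < 8 := fun j => (Finset.mem_filter.1 (Finset.mem_sdiff.1 (ν j).2).1).2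
  have hqS : ∀ j, q j ∉ S := fun j => (Finset.mem_sdiff.1 (ν j).2).2
  have hqi : ∀ j k, j ≠ k → q j ≠ q k := fun j k h h' => h (ν.injective (Subtype.ext h'))
  set o : Fin n := ⟨8, by omega⟩ with ho
  have hoS : o ∉ S := fun h => by
    have := (Finset.mem_filter.1 (hsuppF _ hcm h)).2
    simp [ho] at this
  have hoq : ∀ j, o ≠ q j := fun j h => by have := hqF j; rw [← h] at this; simp [ho] at this
  have lift3 : ∀ x y w : Fin n, x ≠ y → x ≠ w → y ≠ w →
      ∃ s : ℂz, K.p s = cyc3 x y w ∧ Odd (orderOf s) := by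
    intro x y w h1 h2 h3
    have hodd : Odd (orderOf (cyc3 x y w)) :=
      (show Odd 3 by decide).of_dvd_nat (orderOf_dvd_of_pow_eq_one (cyc3_pow h1 h2 h3))
    obtain ⟨s, hs, hs'⟩ := K.exists_odd_lift hodd
    exact ⟨s, hs, Cov.odd_of_pow hodd hs'⟩
  obtain ⟨sC, hsC, hsodd⟩ := lift3 o (q 0) (q 1) (hoq 0) (hoq 1) (hqi _ _ (by decide))
  set s := (sC : G) with hs
  have hsX : s ∈ X := by
    have hcd : Commute cC sC := K.comm_of_odd (Cov.odd_of_pow (by decide) hcC3) (by
      rw [hsC, ← hπdef]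
      refine Perm.Disjoint.commute fun x => ?_
      by_cases hx : x ∈ S
      · right
        rw [cyc3_apply (hoq 0) (hoq 1) (hqi _ _ (by decide)), rot, if_neg fun h => hoS (by rw [← h]; exact hx),
          if_neg fun h => hqS 0 (by rw [← h]; exact hx), if_neg fun h => hqS 1 (by rw [← h]; exact hx)]
      · exact Or.inl (Perm.notMem_support.1 hx))
    refine mem_centralizer_singleton_iff.2 ?_
    rw [← hcG]
    exact (congrArg Subtype.val hcd.eq).symm
  set M' := M.map (MulAut.conj s).toMonoidHom with hM'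
  set Dd := M ⊓ M' with hDd
  have hmem' : ∀ {x : G}, x ∈ M' ↔ s⁻¹ * x * s ∈ M := by
    intro x
    constructor
    · rintro ⟨y, hy, rfl⟩
      show s⁻¹ * (s * y * s⁻¹) * s ∈ M
      rwa [show s⁻¹ * (s * y * s⁻¹) * s = y by group]
    · intro h
      exact ⟨_, h, show s * (s⁻¹ * x * s) * s⁻¹ = x by group⟩
  have hzD : z ∈ Dd := by
    refine ⟨htK ▸ ⟨_, rfl⟩, hmem'.2 ?_⟩
    rw [mul_assoc, ← mem_centralizer_singleton_iff.1 sC.2, inv_mul_cancel_left]
    exact htK ▸ ⟨_, rfl⟩
  let zD : Dd := ⟨z, hzD⟩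
  have hisoD : IsIsolatedInvolution zD := by
    refine ⟨hcoe2 Dd zD rfl, fun g hg => by_contra fun hne => ?_⟩
    obtain ⟨y, hy, h1, h2, h3⟩ := conj_facts g (congrArg Subtype.val hg.eq).symm fun e => hne (Subtype.ext e)
    have hm : (y : G) ∈ Dd := hy ▸ (g * zD * g⁻¹).2
    have hy8 := hME y hm.1
    have hy8' : sC⁻¹ * y * sC ∈ eightPart K := hME _ (hmem'.1 hm.2)
    have h := hy8' o (le_of_eq rfl)
    rw [map_mul, map_mul, map_inv, Perm.mul_apply, Perm.mul_apply, Perm.inv_def, Equiv.symm_apply_eq, hsC,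
      cyc3_apply (hoq 0) (hoq 1) (hqi _ _ (by decide)), rot, if_pos rfl] at h
    exact absurd ((D.fix_iff hy8 h1 h2 h3 _).1 h) (not_le.2 (hqF 0))
  have hzD' : ∀ x ∈ O, s⁻¹ * x * s ∈ O := fun x hx => by
    have := hOn _ (inv_mem hsX) x hx
    rwa [inv_inv] at this
  have haD : ∀ k ∈ [2, 4], a k ∈ (oddCore Dd).map Dd.subtype := by
    intro k hk
    have hk' : k ∈ [2, 3, 4, 5] := by simp at hk ⊢; omega
    have hm : a k ∈ Dd := ⟨haM k, hmem'.2 (hOM (hzD' _ (haO k hk')))⟩
    refine ⟨⟨a k, hm⟩, ?_, rfl⟩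
    have h := ZStar.zStarHolds Dd zD hisoD ⟨a k, hm⟩
    have e : zD * ⟨a k, hm⟩ * zD⁻¹ * (⟨a k, hm⟩ : Dd)⁻¹ = ⟨a k, hm⟩ := Subtype.ext (by
      show z * a k * z⁻¹ * (a k)⁻¹ = a k
      rw [hinva k hk', mul_inv_cancel_right])
    rwa [e] at h
  have hcD : c ∈ (oddCore Dd).map Dd.subtype := hc_of _ (haD 2 (by simp)) (haD 4 (by simp))
  obtain ⟨yC, hyC, -⟩ := lift3 (π (π p0)) (q 2) (q 3) (fun h => hqS 2 (h ▸ mS.2)) (fun h => hqS 3 (h ▸ mS.2))
    (hqi _ _ (by decide))
  have hyap : ∀ x, K.p yC x = rot (π (π p0)) (q 2) (q 3) x := fun x => by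
    rw [hyC, cyc3_apply (fun h : π (π p0) = q 2 => hqS 2 (h ▸ mS.2)) (fun h : π (π p0) = q 3 => hqS 3 (h ▸ mS.2))
      (hqi _ _ (by decide))]
  have hSF : ∀ x ∈ S, (x : ℕ) < 8 := fun x hx => (Finset.mem_filter.1 (hsuppF _ hcm hx)).2
  have hy8 : yC ∈ eightPart K := fun j hj => by
    have := hSF _ mS.2; have := hqF 2; have := hqF 3
    rw [hyap, rot, if_neg fun h => by rw [h] at hj; omega, if_neg fun h => by rw [h] at hj; omega,
      if_neg fun h => by rw [h] at hj; omega]
  have hy8' : sC⁻¹ * yC * sC ∈ eightPart K := fun j hj => by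
    rw [map_mul, map_mul, map_inv, Perm.mul_apply, Perm.mul_apply, Perm.inv_def, Equiv.symm_apply_eq, hyap,
      hsC, cyc3_apply (hoq 0) (hoq 1) (hqi _ _ (by decide))]
    have := hSF _ mS.2; have := hqF 0; have := hqF 1; have := hqF 2; have := hqF 3
    have := hoq 2; have := hoq 3
    have := hqi 0 2 (by decide); have := hqi 0 3 (by decide); have := hqi 1 2 (by decide)
    have := hqi 1 3 (by decide)
    have := hqS 0; have := hqS 1
    have hno : ∀ w : Fin n, (w : ℕ) < 8 → j ≠ w := fun w hw h => by rw [h] at hj; omega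
    have := hno _ (hSF _ mS.2); have := hno _ (hqF 0); have := hno _ (hqF 1); have := hno _ (hqF 2)
    have := hno _ (hqF 3)
    simp only [rot]
    grind
  have hyD : (yC : G) ∈ Dd := ⟨hEM _ hy8, hmem'.2 (hEM _ hy8')⟩
  have hcD2 : (yC : G) * c * (yC : G)⁻¹ ∈ (oddCore Dd).map Dd.subtype := by
    obtain ⟨w, hw, hwc⟩ := hcD
    rw [← hwc]
    exact ⟨_, (inferInstance : (oddCore Dd).Normal).conj_mem w hw ⟨_, hyD⟩, rfl⟩
  set dd : ℂz := cC * (yC * cC * yC⁻¹) with hdd
  have h20 : π (π p0) ≠ p0 := fun e => hπa (by rw [e] at hπ3'; exact hπ3')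
  have hdt : IsDT (K.p dd) := by
    refine ⟨π p0, q 2, π (π p0), p0, fun h => hqS 2 (h ▸ mS.1), fun h => hπa (by
      rw [h] at hπ3'; exact hπ3'), hp12, hπa, fun h => hqS 2 (by rw [h]; exact mS.2),
      fun h => hqS 2 (by rw [h]; exact hp0), ?_⟩
    rw [hdd, map_mul, map_mul, map_mul, map_inv, ← hπdef]
    have hπap : ∀ x, π x = rot p0 (π p0) (π (π p0)) x := fun x => by
      by_cases hx : x ∈ S
      · rcases (hS x).1 hx with rfl | rfl | rfl <;> simp [rot, hπ3', hπa, hp12, Ne.symm hπa, Ne.symm hp12, h20]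
      · rw [Perm.notMem_support.1 hx, rot, if_neg fun h : x = p0 => hx (h ▸ hp0), if_neg fun h : x = π p0 => hx (h ▸ mS.1),
          if_neg fun h : x = π (π p0) => hx (h ▸ mS.2)]
    exact dt_ident π (K.p yC) p0 (π p0) (π (π p0)) (q 2) (q 3) hπap hyap (Ne.symm hπa)
      (Ne.symm h20) (fun h => hqS 2 (h ▸ hp0)) (fun h => hqS 3 (h ▸ hp0)) hp12
      (fun h => hqS 2 (h ▸ mS.1)) (fun h => hqS 3 (h ▸ mS.1)) (fun h => hqS 2 (h ▸ mS.2))
      (fun h => hqS 3 (h ▸ mS.2)) (hqi _ _ (by decide))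
  have hsD : (K.s : G) ∈ (oddCore Dd).map Dd.subtype := by
    rw [← K.four dd hdt, hdd]
    show ((cC : G) * ((yC : G) * cC * (yC : G)⁻¹)) * ((cC : G) * ((yC : G) * cC * (yC : G)⁻¹)) ∈ _
    rw [hcG]
    exact mul_mem (mul_mem hcD hcD2) (mul_mem hcD hcD2)
  rw [D.cs] at hsD
  have hodd : Odd (orderOf z) := by
    refine Odd.of_dvd_nat ?_ (orderOf_dvd_natCard _ hsD)
    rw [← Nat.card_congr ((oddCore Dd).equivMapOfInjective _ Dd.subtype_injective).toEquiv]
    exact ZStar.odd_card_oddCore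
  rw [hz2] at hodd
  exact absurd hodd (by decide)

end Cfsg.Lib.MclNine
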