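import Cfsg.Agent.Lib.MclType.Setup

/-!
# A copy of the centralizer in the model inside a larger centralizer
-/

set_option autoImplicit false
set_option maxRecDepth 100000
set_option linter.style.haveILetI false

namespace Cfsg.Lib.MclNine

open Equiv Cfsg.Lib.PermAut Cfsg.Lib.J3Type Cfsg.Lib.MclType Subgroup

variable {G : Type*} [Group G] {C : Subgroup G}

open scoped Classical in
/-- An isomorphism from the centralizer in the model, extended to all permutations. -/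
noncomputable def ext' (ψ : Cm ≃* C) (g : P275) : G :=
  if h : g ∈ Cm then (ψ ⟨g, h⟩ : G) else 1

/-- The element with the given number, in the group. -/
noncomputable def dG (ψ : Cm ≃* C) (x : ℕ) : G := ext' ψ (dP x)

section Map

variable (ψ : Cm ≃* C)

theorem ext_coe (g : Cm) : ext' ψ (g : P275) = ψ g := by rw [ext', dif_pos g.2]

theorem ext_mul {g h : P275} (hg : g ∈ Cm) (hh : h ∈ Cm) : ext' ψ (g * h) = ext' ψ g * ext' ψ h := by
  rw [show g * h = ((⟨g, hg⟩ * ⟨h, hh⟩ : Cm) : P275) from rfl, ext_coe, map_mul, Subgroup.coe_mul,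
    ← ext_coe ψ ⟨g, hg⟩, ← ext_coe ψ ⟨h, hh⟩]

theorem ext_one : ext' ψ 1 = 1 := by
  rw [show (1 : P275) = ((1 : Cm) : P275) from rfl, ext_coe, map_one, Subgroup.coe_one]

theorem ext_inv {g : P275} (hg : g ∈ Cm) : ext' ψ g⁻¹ = (ext' ψ g)⁻¹ := by
  rw [eq_inv_iff_mul_eq_one, ← ext_mul ψ (inv_mem hg) hg, inv_mul_cancel, ext_one]

theorem ext_mem {g : P275} (hg : g ∈ Cm) : ext' ψ g ∈ C := by
  rw [ext', dif_pos hg]; exact (ψ ⟨g, hg⟩).2

theorem ext_inj {g h : P275} (hg : g ∈ Cm) (hh : h ∈ Cm) (e : ext' ψ g = ext' ψ h) : g = h := by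
  rw [ext', ext', dif_pos hg, dif_pos hh] at e
  exact congrArg Subtype.val (ψ.injective (Subtype.ext e))

theorem ext_surj {x : G} (hx : x ∈ C) : ∃ g ∈ Cm, ext' ψ g = x :=
  ⟨_, (ψ.symm ⟨x, hx⟩).2, by rw [ext_coe, MulEquiv.apply_symm_apply]⟩

theorem dG_mem {x : ℕ} (hx : x < 192) : dG ψ x ∈ C := ext_mem ψ (dP_rep hx).2.1

theorem dG_mul {x y : ℕ} (hx : x < 192) (hy : y < 192) : dG ψ (dMul x y) = dG ψ x * dG ψ y := by
  rw [dG, (dP_mul hx hy).2, ext_mul ψ (dP_rep hx).2.1 (dP_rep hy).2.1]; rfl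

theorem dG_one : dG ψ dE = 1 := by rw [dG, dP_E, ext_one]

theorem dG_inv {x : ℕ} (hx : x < 192) : dG ψ (dIv x) = (dG ψ x)⁻¹ := by
  rw [dG, (dP_rep hx).2.2.2, ext_inv ψ (dP_rep hx).2.1]; rfl

theorem dG_inj {x y : ℕ} (hx : x < 192) (hy : y < 192) (e : dG ψ x = dG ψ y) : x = y :=
  dP_inj hx hy (ext_inj ψ (dP_rep hx).2.1 (dP_rep hy).2.1 e)

/-- An element centralizing both involutions has a number. -/
theorem dG_surj {x : G} (hx : x ∈ C) (hv : x * dG ψ dV = dG ψ dV * x) :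
    ∃ n < 192, dG ψ n = x := by
  obtain ⟨g, hg, rfl⟩ := ext_surj ψ hx
  have hvC := (dP_rep (x := dV) (by decide)).2.1
  obtain ⟨n, hn, rfl⟩ := mem_D hg (ext_inj ψ (mul_mem hg hvC) (mul_mem hvC hg) (by
    rw [ext_mul ψ hg hvC, ext_mul ψ hvC hg]; exact hv))
  exact ⟨n, hn, rfl⟩

end Map

/-- The configuration: an isomorphism of the centralizers and an involution inducing the standard
automorphism on the centralizer of two involutions. -/
structure Cfg (C : Subgroup G) (t : G) (ψ : Cm ≃* C) (i : G) : Prop where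
  le : C ≤ centralizer ({t} : Set G)
  psiT : ext' ψ MclInv.tP = t
  sq : i * i = 1
  act : ∀ x < 192, i * dG ψ x * i = dG ψ (dAl x)
  cent : ∀ x : G, x * t = t * x →
    ((∀ e ∈ dEA, x * dG ψ e = dG ψ e * x) ∨ ∀ e ∈ dEB, x * dG ψ e = dG ψ e * x) → x ∈ C


end Cfsg.Lib.MclNine
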