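import Cfsg.Agent.Lib.MclNine.Data
import Cfsg.Agent.Lib.MclType.Model
import Cfsg.Agent.Lib.MclType.DFacts

/-!
# The machine checks for six elements of the model
-/

set_option autoImplicit false
set_option maxRecDepth 100000

namespace Cfsg.Lib.MclNine

open Equiv Cfsg.Lib.PermAut Cfsg.Lib.J3Type Cfsg.Lib.MclType Subgroup

/-- A table of the list. -/
def nT (k : ℕ) : ℕ := nTab.getD k 0

theorem nine_rep_ok : ((List.range 6).all fun k => invPairOk 9 275 (nTab.getD k 0) (nInv.getD k 0)) = true ∧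
    ((List.range 2).all fun k => pathOk MclInv.centSub.lev (nCPath.getD k []) &&
      sameB 9 275 [nT k] (pickPath MclInv.centSub.lev (nCPath.getD k []))) = true ∧
    ((List.range 4).all fun k => pathOk Mcl.cert.tr (nKPath.getD k []) &&
      sameB 9 275 [nT (Nat.add k 2)] (pickPath Mcl.cert.tr (nKPath.getD k []))) = true := by decide +kernel

/-- The word of a normal form. -/
def nWord (e : ℕ) : List ℕ :=
  List.replicate (e % 3) (nT 2) ++ List.replicate (e / 3 % 3) (nT 3) ++ List.replicate (e / 9 % 3) (nT 4) ++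
    List.replicate (e / 27 % 3) (nT 5) ++ List.replicate (e / 81 % 3) (nT 0)

/-- The key of a word. -/
noncomputable def nKey (l : List ℕ) : ℕ :=
  Nat.add (ev 9 l 38) (Nat.add (Nat.mul 512 (ev 9 l 19)) (Nat.mul 262144 (ev 9 l 162)))

theorem nine_rel_ok :
    ([0, 2, 3, 4, 5].all fun k => sameB 9 275 [nT k, nT k, nT k] []) = true ∧
    sameB 9 275 [nT 1, nT 1, nT 1, nT 1, nT 1] [] = true ∧
    sameB 9 275 [nT 0] [] = false ∧ sameB 9 275 [nT 1] [] = false ∧
    sameB 9 275 [nT 0, nT 1] [nT 1, nT 0] = true ∧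
    ([2, 3, 4, 5].all fun k => sameB 9 275 [nT 0, nT k] [nT k, nT 0] &&
      sameB 9 275 [MclInv.invT, nT k, MclInv.invT] [nT k, nT k]) = true ∧
    sameB 9 275 [nT 2, nT 3] [nT 3, nT 2] = true ∧ sameB 9 275 [nT 4, nT 5] [nT 5, nT 4] = true ∧
    sameB 9 275 [nT 2, nT 4] [nT 4, nT 2] = false ∧
    ((List.range 4).all fun q => sameB 9 275 [nT (Nat.add 2 (q / 2)), nT (Nat.add 4 (q % 2))]
      (List.replicate (nCom.getD q 0) (nT 0) ++ [nT (Nat.add 4 (q % 2)), nT (Nat.add 2 (q / 2))])) = true ∧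
    nodupB ((List.range 243).map fun e => nKey (nWord e)) = true := by decide +kernel

end Cfsg.Lib.MclNine
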