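import Cfsg.Agent.Lib.MclNine.Degree
import Cfsg.Agent.Lib.CoverAlt.Separate

/-!
# In degree twelve the two involutions of a commuting pair are distinguished

The central involution is the square of an element with at most six conjugates under the joint centralizer; the
other involution is not.
-/

set_option autoImplicit false
set_option maxRecDepth 100000

namespace Cfsg.Lib.MclNine

open Equiv Equiv.Perm Cfsg.Lib.PermAut Cfsg.Lib.J3Type Cfsg.Lib.MclType Cfsg.Lib.CoverAlt

/-- A list without repetitions with the same entries. -/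
def dedupB : List ℕ → List ℕ
  | [] => []
  | y :: l => if memB y (dedupB l) then dedupB l else y :: dedupB l

theorem of_mem_dedupB {y : ℕ} : ∀ {l : List ℕ}, y ∈ dedupB l → y ∈ l
  | [], h => h
  | x :: l, h => by
    rw [dedupB] at h
    split at h
    · exact List.mem_cons_of_mem _ (of_mem_dedupB h)
    · rcases List.mem_cons.1 h with rfl | h
      · exact List.mem_cons_self ..
      · exact List.mem_cons_of_mem _ (of_mem_dedupB h)

/-- The conjugates of an element among the numbers. -/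
def conjD (x : ℕ) : List ℕ := dedupB ((List.range 192).map fun d => dMul (dMul d x) (dIv d))

theorem twelve_ok : ((List.range 192).all fun x =>
    Nat.blt (dIv x) 192 && Nat.beq (dMul x dV) (dMul dV x) &&
      (!(Nat.beq (dMul x x) dV || Nat.beq (dMul x x) (dMul dT dV)) ||
        (Nat.ble 7 (conjD x).length && nodupB (conjD x)))) = true := by
  decide +kernel

theorem twelve_spec {x : ℕ} (hx : x < 192) : dIv x < 192 ∧ dMul x dV = dMul dV x ∧
    (dMul x x = dV ∨ dMul x x = dMul dT dV → 7 ≤ (conjD x).length ∧ (conjD x).Nodup) := by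
  have h := List.all_eq_true.1 twelve_ok x (List.mem_range.2 hx)
  simp only [Bool.and_eq_true, Bool.or_eq_true, Bool.not_eq_true', Nat.beq_eq] at h
  refine ⟨Nat.lt_of_succ_le (Nat.le_of_ble_eq_true h.1.1), h.1.2, fun hsq => ?_⟩
  rcases h.2 with h' | h'
  · exfalso
    rcases hsq with e | e <;> rw [e] at h' <;> revert h' <;> decide +kernel
  · exact ⟨Nat.le_of_ble_eq_true h'.1, nodup_of_nodupB h'.2⟩

/-- A permutation of order dividing four whose square moves all eight of its points is even. -/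
theorem sign_four {n : ℕ} {π : Perm (Fin n)} (h4 : π ^ 4 = 1) (h2 : ∀ x, π x ≠ x → π (π x) ≠ x)
    (h8 : π.support.card = 8) : Perm.sign π = 1 := by
  classical
  have hk : ∀ k ∈ π.cycleType, k = 4 := by
    intro k hk
    have h1 := Perm.two_le_of_mem_cycleType hk
    have hd := (Perm.dvd_of_mem_cycleType hk).trans (orderOf_dvd_of_pow_eq_one h4)
    have hle := Nat.le_of_dvd (by norm_num) hd
    have hne : k ≠ 2 := by
      rintro rfl
      obtain ⟨c, τ, hπ, hdis, hc, hc2⟩ := Perm.mem_cycleType_iff.1 hk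
      obtain ⟨x, hx⟩ := Finset.card_pos.1 (show 0 < c.support.card by rw [hc2]; norm_num)
      rw [Perm.mem_support] at hx
      have hτ : ∀ w, c w ≠ w → τ w = w := fun w hw => (hdis w).resolve_left hw
      have hcc : c (c x) = x := by
        have := pow_orderOf_eq_one c
        rw [hc.orderOf, hc2, pow_two] at this
        rw [← Perm.mul_apply, this, Perm.one_apply]
      have hcx : c (c x) ≠ c x := fun e => hx (c.injective e)
      refine h2 x ?_ ?_
      · rw [hπ, Perm.mul_apply, hτ x hx]; exact hx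
      · simp only [hπ, Perm.mul_apply]
        rw [hτ x hx, hτ (c x) hcx, hcc]
    interval_cases k <;> simp_all
  rw [Perm.sign_of_cycleType, Multiset.eq_replicate_card.2 hk]
  have hsum := Perm.sum_cycleType π
  rw [Multiset.eq_replicate_card.2 hk, Multiset.sum_replicate, h8, smul_eq_mul] at hsum
  rw [Multiset.sum_replicate, Multiset.card_replicate, show Multiset.card π.cycleType = 2 by omega]
  decide

/-- The double transpositions on four points. -/
theorem dt_cases {n : ℕ} {δ : Perm (Fin n)} {a b c d : Fin n} (hab : a ≠ b) (hcd : c ≠ d) (hac : a ≠ c)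
    (had : a ≠ d) (hbc : b ≠ c) (hbd : b ≠ d) (h2 : ∀ x, δ (δ x) = x)
    (hout : ∀ x, x ≠ a → x ≠ b → x ≠ c → x ≠ d → δ x = x)
    (hin : ∀ x, x = a ∨ x = b ∨ x = c ∨ x = d → δ x ≠ x) :
    δ = swap a b * swap c d ∨ δ = swap a c * swap b d ∨ δ = swap a d * swap b c := by
  have hm : ∀ x, x = a ∨ x = b ∨ x = c ∨ x = d → δ x = a ∨ δ x = b ∨ δ x = c ∨ δ x = d := by
    intro x hx
    by_contra h
    push Not at h
    have := hout (δ x) h.1 h.2.1 h.2.2.1 h.2.2.2
    rw [h2] at this
    exact hin x hx this.symm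
  have := hm a (by simp); have := hm b (by simp); have := hm c (by simp); have := hm d (by simp)
  have := hin a (by simp); have := hin b (by simp); have := hin c (by simp); have := hin d (by simp)
  have := h2 a; have := h2 b; have := h2 c; have := h2 d
  rcases (show δ a = b ∨ δ a = c ∨ δ a = d by grind) with e | e | e
  · refine Or.inl (Equiv.ext fun x => ?_)
    have := hout x
    simp only [Perm.mul_apply, swap_apply_def]
    grind
  · refine Or.inr (Or.inl (Equiv.ext fun x => ?_))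
    have := hout x
    simp only [Perm.mul_apply, swap_apply_def]
    grind
  · refine Or.inr (Or.inr (Equiv.ext fun x => ?_))
    have := hout x
    simp only [Perm.mul_apply, swap_apply_def]
    grind

section Inv

variable {G : Type*} [Group G]

/-- A square of an element with at most six conjugates. -/
def Phi4 (z t x : G) : Prop :=
  ∃ u ∈ dSet z t, u * u = x ∧ ∃ L : List G, L.length ≤ 6 ∧ ∀ d ∈ dSet z t, d * u * d⁻¹ ∈ L

theorem Phi4.conj (a : G) {z t x : G} (h : Phi4 z t x) :
    Phi4 (a * z * a⁻¹) (a * t * a⁻¹) (a * x * a⁻¹) := by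
  obtain ⟨u, hu, e, L, hL, hLd⟩ := h
  refine ⟨_, (dSet_conj a).2 hu, by rw [conj_mul, e], L.map fun y => a * y * a⁻¹, by simpa using hL, fun d hd => ?_⟩
  obtain ⟨d', rfl⟩ : ∃ d', a * d' * a⁻¹ = d := ⟨a⁻¹ * d * a, by group⟩
  exact List.mem_map.2 ⟨_, hLd d' ((dSet_conj a).1 hd), by group⟩

end Inv

variable {G : Type*} [Group G] {n : ℕ} {z : G} {K : Cov (Subgroup.centralizer ({z} : Set G)) n}
  {ψ : Cm ≃* eightG K}

set_option quotPrecheck false in
local notation "ℂz" => Subgroup.centralizer ({z} : Set G)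

theorem phi4_z (D : Deg z K ψ) (hn : n = 12) {t : ℂz} (htt : t * t = 1) (t1 : t ≠ 1) (t2 : t ≠ K.s) :
    Phi4 z (t : G) z := by
  classical
  set Fx := Finset.univ.filter fun x => K.p t x = x with hFx
  have hcard : Fx.card = 4 := by
    have h := Finset.card_compl (K.p t).support
    rw [D.support_eight htt t1 t2, Fintype.card_fin] at h
    have e : Fx = (K.p t).supportᶜ := by ext x; simp [Fx]
    rw [e, h, hn]
  obtain ⟨g⟩ := Function.Embedding.nonempty_of_card_le (α := Fin 4) (β := ↥Fx) (by simp [hcard])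
  set f : Fin 4 → Fin n := fun i => (g i : Fin n) with hf
  have hfi : Function.Injective f := fun i j h => g.injective (Subtype.ext h)
  have hfix : ∀ i, K.p t (f i) = f i := fun i => (Finset.mem_filter.1 (g i).2).2
  have hall : ∀ x, K.p t x = x ↔ x = f 0 ∨ x = f 1 ∨ x = f 2 ∨ x = f 3 := by
    intro x
    constructor
    · intro hx
      have he : Finset.univ.image f = Fx := Finset.eq_of_subset_of_card_le
        (fun y hy => by obtain ⟨i, -, rfl⟩ := Finset.mem_image.1 hy; exact (g i).2)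
        (by rw [hcard, Finset.card_image_of_injective _ hfi]; simp)
      have hxm : x ∈ Finset.univ.image f := he ▸ Finset.mem_filter.2 ⟨Finset.mem_univ _, hx⟩
      obtain ⟨i, -, rfl⟩ := Finset.mem_image.1 hxm
      fin_cases i <;> simp
    · rintro (rfl | rfl | rfl | rfl) <;> exact hfix _
  have hne : ∀ i j : Fin 4, i ≠ j → f i ≠ f j := fun i j h e => h (hfi e)
  have hdt : ∀ a b c d : Fin 4, a ≠ b → c ≠ d → a ≠ c → a ≠ d → b ≠ c → b ≠ d →
      IsDT (swap (f a) (f b) * swap (f c) (f d)) := fun a b c d h1 h2 h3 h4 h5 h6 =>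
    ⟨_, _, _, _, hne _ _ h1, hne _ _ h2, hne _ _ h3, hne _ _ h4, hne _ _ h5, hne _ _ h6, rfl⟩
  have d1 := hdt 0 1 2 3 (by decide) (by decide) (by decide) (by decide) (by decide) (by decide)
  have d2 := hdt 0 2 1 3 (by decide) (by decide) (by decide) (by decide) (by decide) (by decide)
  have d3 := hdt 0 3 1 2 (by decide) (by decide) (by decide) (by decide) (by decide) (by decide)
  obtain ⟨u1, hu1⟩ := K.surj _ (sign_dt d1)
  obtain ⟨u2, hu2⟩ := K.surj _ (sign_dt d2)
  obtain ⟨u3, hu3⟩ := K.surj _ (sign_dt d3)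
  have hut : u1 * t = t * u1 := (K.comm_of_fix (hne 0 1 (by decide)) (hne 2 3 (by decide)) (hne 0 2 (by decide))
    (hne 0 3 (by decide)) (hne 1 2 (by decide)) (hne 1 3 (by decide)) hu1 (hfix 0) (hfix 1) (hfix 2) (hfix 3)).eq
  refine ⟨u1, mem_dSet_coe hut, (congrArg Subtype.val (K.four u1 (hu1 ▸ d1))).trans D.cs,
    [(u1 : G), u1 * z, u2, u2 * z, u3, u3 * z], by simp, fun d' hd' => ?_⟩
  obtain ⟨d, rfl, hdt'⟩ := exists_coe hd'
  have hdinv : d⁻¹ * t = t * d⁻¹ := (Commute.inv_left (show Commute d t from hdt')).eq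
  set δ := K.p (d * u1 * d⁻¹) with hδ
  have hap : ∀ x, δ x = K.p d (K.p u1 (K.p d⁻¹ x)) := fun x => by
    rw [hδ, map_mul, map_mul, Perm.mul_apply, Perm.mul_apply]
  have hdd : ∀ x, K.p d (K.p d⁻¹ x) = x := fun x => by
    rw [← Perm.mul_apply, ← map_mul, mul_inv_cancel, map_one, Perm.one_apply]
  have hdd' : ∀ x, K.p d⁻¹ (K.p d x) = x := fun x => by
    rw [← Perm.mul_apply, ← map_mul, inv_mul_cancel, map_one, Perm.one_apply]
  have h2 : ∀ x, δ (δ x) = x := fun x => by
    rw [hap, hap, hdd', ← Perm.mul_apply (K.p u1) (K.p u1), hu1, dt_sq d1, Perm.one_apply, hdd]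
  have hout : ∀ x, x ≠ f 0 → x ≠ f 1 → x ≠ f 2 → x ≠ f 3 → δ x = x := by
    intro x a0 a1 a2 a3
    have hx : K.p t x ≠ x := fun e => by rcases (hall x).1 e with h | h | h | h <;> contradiction
    have hw : K.p t (K.p d⁻¹ x) ≠ K.p d⁻¹ x := fun e => hx ((moved_stable K hdinv).1 e)
    rw [hap, hu1, Perm.mul_apply]
    have b : ∀ i, K.p d⁻¹ x ≠ f i := fun i e => hw (e ▸ hfix i)
    rw [swap_apply_of_ne_of_ne (b 2) (b 3), swap_apply_of_ne_of_ne (b 0) (b 1), hdd]
  have hin : ∀ x, x = f 0 ∨ x = f 1 ∨ x = f 2 ∨ x = f 3 → δ x ≠ x := by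
    intro x hx e
    have hw := (hall _).1 ((moved_stable K hdinv).2 ((hall x).2 hx))
    rw [hap] at e
    have e' := congrArg (K.p d⁻¹) e
    rw [hdd', hu1, Perm.mul_apply] at e'
    have := hne 0 1 (by decide); have := hne 0 2 (by decide); have := hne 0 3 (by decide)
    have := hne 1 2 (by decide); have := hne 1 3 (by decide); have := hne 2 3 (by decide)
    rcases hw with h | h | h | h <;> rw [h] at e' <;> simp only [swap_apply_def] at e' <;> grind
  have key : ∀ w : ℂz, δ = K.p w → ((d : G) * u1 * (d : G)⁻¹ = w ∨ (d : G) * u1 * (d : G)⁻¹ = w * z) := by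
    intro w hw
    rcases K.eq_or_eq hw with e | e
    · exact Or.inl (congrArg Subtype.val e)
    · exact Or.inr ((congrArg Subtype.val e).trans (by rw [Subgroup.coe_mul, D.cs]))
  rcases dt_cases (hne 0 1 (by decide)) (hne 2 3 (by decide)) (hne 0 2 (by decide)) (hne 0 3 (by decide))
    (hne 1 2 (by decide)) (hne 1 3 (by decide)) h2 hout hin with e | e | e
  · rcases key u1 (e.trans hu1.symm) with h | h <;> simp [h]
  · rcases key u2 (e.trans hu2.symm) with h | h <;> simp [h]
  · rcases key u3 (e.trans hu3.symm) with h | h <;> simp [h]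

set_option maxHeartbeats 3200000 in
theorem not_phi4_v (D : Deg z K ψ) (hn : n = 12) : ¬ Phi4 z (dG ψ dV) (dG ψ dV) := by
  classical
  obtain ⟨vv, hv, hvm, hvv, v1, v2⟩ := D.exists_vC
  rintro ⟨u', hu', husq, L, hL, hLd⟩
  obtain ⟨u, rfl, huv⟩ := exists_coe (t := vv) (hv.symm ▸ hu')
  have huu : u * u = vv := Subtype.ext (husq.trans hv.symm)
  have hτ := fun i => D.fix_iff hvm hvv v1 v2 i
  set σ := K.p u with hσ
  have hσσ : ∀ x, σ (σ x) = K.p vv x := fun x => by rw [← Perm.mul_apply, hσ, ← map_mul, huu]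
  have hst : ∀ x : Fin n, 8 ≤ (σ x : ℕ) ↔ 8 ≤ (x : ℕ) := fun x => by
    rw [← hτ, ← hτ]; exact moved_stable K huv
  set ρ : Perm (Fin n) := Perm.ofSubtype (σ.subtypePerm (p := fun i : Fin n => 8 ≤ (i : ℕ)) hst) with hρ
  have hρo : ∀ x : Fin n, 8 ≤ (x : ℕ) → ρ x = σ x := fun x hx => by
    rw [hρ, Perm.ofSubtype_apply_of_mem (p := fun i : Fin n => 8 ≤ (i : ℕ)) _ hx]; rfl
  have hρi : ∀ x : Fin n, (x : ℕ) < 8 → ρ x = x := fun x hx => Perm.ofSubtype_apply_of_not_mem _ (not_le.2 hx)
  have hρρ : ρ * ρ = 1 := by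
    refine Equiv.ext fun x => ?_
    rw [Perm.mul_apply, Perm.one_apply]
    rcases lt_or_ge (x : ℕ) 8 with hx | hx
    · rw [hρi x hx, hρi x hx]
    · rw [hρo x hx, hρo _ ((hst x).2 hx), hσσ, (hτ x).2 hx]
  set π := σ * ρ with hπ
  have hπo : ∀ x : Fin n, 8 ≤ (x : ℕ) → π x = x := fun x hx => by
    rw [hπ, Perm.mul_apply, hρo x hx, hσσ, (hτ x).2 hx]
  have hπi : ∀ x : Fin n, (x : ℕ) < 8 → π x = σ x := fun x hx => by rw [hπ, Perm.mul_apply, hρi x hx]
  have hπ2 : ∀ x, π (π x) = K.p vv x := fun x => by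
    rcases lt_or_ge (x : ℕ) 8 with hx | hx
    · rw [hπi x hx, hπi _ (not_le.1 fun h => not_le.2 hx ((hst x).1 h)), hσσ]
    · rw [hπo x hx, hπo x hx, (hτ x).2 hx]
  have hπ4 : π ^ 4 = 1 := by
    refine Equiv.ext fun x => ?_
    rw [Perm.one_apply, show π ^ 4 = π * π * (π * π) by simp [pow_succ, mul_assoc]]
    simp only [Perm.mul_apply, hπ2]
    rw [← Perm.mul_apply, ← map_mul, hvv, map_one, Perm.one_apply]
  have hπm : ∀ x, π x ≠ x → π (π x) ≠ x := fun x hx => by
    rw [hπ2, Ne, hτ]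
    exact fun h => hx (hπo x h)
  have hπs : π.support.card = 8 := by
    have e : π.support = (K.p vv).support := by
      ext x
      simp only [Perm.mem_support, Ne]
      refine ⟨fun h h' => h (hπo x ((hτ x).1 h')), fun h h' => h ?_⟩
      rw [← hπ2, h', h']
    rw [e, D.support_eight hvv v1 v2]
  have hρs : Perm.sign ρ = 1 := by
    have e : σ = π * ρ := by rw [hπ, mul_assoc, hρρ, mul_one]
    have h := K.sign_eq u
    rwa [← hσ, e, map_mul, sign_four hπ4 hπm hπs, one_mul] at h
  obtain ⟨r, hr⟩ := K.surj ρ hρs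
  have hrc : ∀ h ∈ eightPart K, r * h = h * r := by
    intro h hh
    by_cases h1 : ρ = 1
    · rcases K.ker r (hr.trans h1) with e | e <;> rw [e]
      · rw [one_mul, mul_one]
      · exact (K.comm h).symm
    obtain ⟨a, ha⟩ : ∃ a, ρ a ≠ a := by
      by_contra hno
      push Not at hno
      exact h1 (Equiv.ext hno)
    have i2 : ∀ w, ρ (ρ w) = w := fun w => by rw [← Perm.mul_apply, hρρ, Perm.one_apply]
    obtain ⟨c, hc, hca, hcb⟩ : ∃ c, ρ c ≠ c ∧ c ≠ a ∧ c ≠ ρ a := by
      by_contra hno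
      push Not at hno
      have hsw : ρ = swap a (ρ a) := Equiv.ext fun w => by
        by_cases k1 : w = a
        · subst k1; rw [swap_apply_left]
        by_cases k2 : w = ρ a
        · rw [k2, swap_apply_right, i2]
        rw [swap_apply_of_ne_of_ne k1 k2]
        by_contra k3
        exact k2 (hno w k3 k1)
      rw [hsw, sign_swap (Ne.symm ha)] at hρs
      exact absurd hρs (by decide)
    have hge : ∀ w, ρ w ≠ w → 8 ≤ (w : ℕ) := fun w hw => not_lt.1 fun hlt => hw (hρi w hlt)
    have ha' : ρ (ρ a) ≠ ρ a := fun e => ha (ρ.injective e)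
    have hc' : ρ (ρ c) ≠ ρ c := fun e => hc (ρ.injective e)
    have n1 : a ≠ ρ c := fun e => hcb (by rw [e, i2])
    have n2 : ρ a ≠ ρ c := fun e => hca (ρ.injective e).symm
    have hsub : ({a, ρ a, c, ρ c} : Finset (Fin n)) ⊆ Finset.univ.filter fun i : Fin n => 8 ≤ (i : ℕ) := by
      intro w hw
      simp only [Finset.mem_insert, Finset.mem_singleton] at hw
      refine Finset.mem_filter.2 ⟨Finset.mem_univ _, ?_⟩
      rcases hw with rfl | rfl | rfl | rfl
      exacts [hge _ ha, hge _ ha', hge _ hc, hge _ hc']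
    have h4 : ({a, ρ a, c, ρ c} : Finset (Fin n)).card = 4 := by
      rw [Finset.card_insert_of_notMem (by simp [Ne.symm ha, hca.symm, n1]),
        Finset.card_insert_of_notMem (by simp [hcb.symm, n2]),
        Finset.card_insert_of_notMem (by simp [Ne.symm hc]), Finset.card_singleton]
    have h4' : (Finset.univ.filter fun i : Fin n => 8 ≤ (i : ℕ)).card ≤ 4 := by
      have := Finset.card_le_card_of_injOn (s := Finset.univ.filter fun i : Fin n => 8 ≤ (i : ℕ))
        (t := Finset.range 4) (fun i => (i : ℕ) - 8)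
        (fun i hi => Finset.mem_range.2 (by
          show (i : ℕ) - 8 < 4
          have := i.isLt; have := (Finset.mem_filter.1 hi).2; omega))
        (fun i hi j hj e => Fin.ext (by
          have := (Finset.mem_filter.1 hi).2; have := (Finset.mem_filter.1 hj).2
          change (i : ℕ) - 8 = (j : ℕ) - 8 at e
          omega))
      simpa using this
    have he := Finset.eq_of_subset_of_card_le hsub (by rw [h4]; exact h4')
    have hρeq : K.p r = swap a (ρ a) * swap c (ρ c) := by
      rw [hr]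
      refine Equiv.ext fun w => ?_
      by_cases hw : w ∈ ({a, ρ a, c, ρ c} : Finset (Fin n))
      · simp only [Finset.mem_insert, Finset.mem_singleton] at hw
        have := i2 a; have := i2 c
        simp only [Perm.mul_apply, swap_apply_def]
        grind
      · have hw8 : (w : ℕ) < 8 := not_le.1 fun h => hw (he ▸ Finset.mem_filter.2 ⟨Finset.mem_univ _, h⟩)
        simp only [Finset.mem_insert, Finset.mem_singleton, not_or] at hw
        rw [hρi w hw8, Perm.mul_apply, swap_apply_of_ne_of_ne hw.2.2.1 hw.2.2.2,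
          swap_apply_of_ne_of_ne hw.1 hw.2.1]
    exact (K.comm_of_fix (Ne.symm ha) (Ne.symm hc) hca.symm n1 hcb.symm n2 hρeq
      (hh _ (hge _ ha)) (hh _ (hge _ ha')) (hh _ (hge _ hc)) (hh _ (hge _ hc'))).eq
  set x8 := u * r⁻¹ with hx8
  have hρinv : ρ⁻¹ = ρ := inv_eq_of_mul_eq_one_left hρρ
  have hx8m : x8 ∈ eightPart K := fun i hi => by
    rw [hx8, map_mul, map_inv, hr, hρinv]
    exact hπo i hi
  have hrv : r * vv = vv * r := hrc _ hvm
  have hx8v : x8 * vv = vv * x8 := by
    rw [hx8]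
    exact ((show Commute u vv from huv).mul_left (Commute.inv_left hrv)).eq
  obtain ⟨e, he, hex⟩ := dG_surj ψ (mem_eightG.2 hx8m) (by rw [← hv]; exact congrArg Subtype.val hx8v)
  have hu8 : u = x8 * r := by rw [hx8, inv_mul_cancel_right]
  have hsq : dMul e e = dV ∨ dMul e e = dMul dT dV := by
    have hcomm : Commute x8 r := (hrc _ hx8m).symm
    have h := huu
    rw [hu8, hcomm.symm.mul_mul_mul_comm] at h
    have hl := (dP_mul he he).1
    rcases K.ker (r * r) (by rw [map_mul, hr, hρρ]) with e1 | e1 <;> rw [e1] at h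
    · left
      refine dG_inj ψ hl (by decide) ?_
      rw [dG_mul ψ he he, hex, ← hv, ← h, mul_one]
      rfl
    · right
      refine dG_inj ψ hl (dP_mul (by decide) (by decide)).1 ?_
      rw [dG_mul ψ he he, hex, dG_mul ψ (x := dT) (by decide) (by decide), ← hv, ← h]
      show _ = dG ψ dT * _
      rw [show dG ψ dT = (K.s : G) by rw [dG, dP_T, D.psiT, D.cs]]
      have e2 : x8 * x8 = K.s * (x8 * x8 * K.s) := by
        rw [← K.comm (x8 * x8 * K.s), mul_assoc (x8 * x8) K.s K.s, K.ss, mul_one]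
      exact congrArg Subtype.val e2
  obtain ⟨hlen, hnd⟩ := (twelve_spec he).2.2 hsq
  have hconjlt : ∀ y ∈ conjD e, y < 192 ∧ dG ψ y * (r : G) ∈ L := by
    intro y hy
    obtain ⟨d, hd, rfl⟩ := List.mem_map.1 (of_mem_dedupB hy)
    rw [List.mem_range] at hd
    obtain ⟨dC, hdC, hdm⟩ := exists_toC (ψ := ψ) (dP_rep hd).2.1
    have hde := (dP_mul hd he).1
    obtain ⟨hIv, hdv, -⟩ := twelve_spec hd
    refine ⟨(dP_mul hde hIv).1, ?_⟩
    rw [dG_mul ψ hde hIv, dG_mul ψ hd he, dG_inv ψ hd]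
    have hmem : (dC : G) ∈ dSet z (dG ψ dV) := by
      refine ⟨Subgroup.mem_centralizer_singleton_iff.1 dC.2, ?_⟩
      show (dC : G) * _ = _
      rw [hdC]
      show dG ψ d * dG ψ dV = dG ψ dV * dG ψ d
      rw [← dG_mul ψ hd (by decide), ← dG_mul ψ (by decide) hd, hdv]
    convert hLd _ hmem using 1
    rw [hu8, hdC, Subgroup.coe_mul, ← hex]
    show dG ψ d * dG ψ e * (dG ψ d)⁻¹ * (r : G) = dG ψ d * (dG ψ e * (r : G)) * (dG ψ d)⁻¹
    have hc : Commute (r : G) (dC : G) := congrArg Subtype.val (hrc _ hdm)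
    have hc' : Commute (r : G) (dG ψ d) := by
      have e' : (dC : G) = dG ψ d := hdC
      rwa [e'] at hc
    rw [mul_assoc _ _ (r : G), ← hc'.inv_right.eq]
    group
  have hnd' : ((conjD e).map fun y => dG ψ y * (r : G)).Nodup :=
    hnd.map_on fun a ha b hb h => dG_inj ψ (hconjlt a ha).1 (hconjlt b hb).1 (mul_right_cancel h)
  have := (hnd'.subperm (l₂ := L) fun y hy => by
    obtain ⟨a, ha, rfl⟩ := List.mem_map.1 hy
    exact (hconjlt a ha).2).length_le
  rw [List.length_map] at this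
  omega

/-- In degree twelve the central involution is isolated. -/
theorem isolated_twelve (D : Deg z K ψ) (hn : n = 12) (g : G) (hg : g * z * g⁻¹ * z = z * (g * z * g⁻¹)) :
    g * z * g⁻¹ = z := by
  by_contra hne
  have hz1 : z ≠ 1 := fun e => K.s1 (Subtype.ext (D.cs.trans e))
  have hinvol : ∀ a : G, a * z * a⁻¹ * (a * z * a⁻¹) = 1 ∧ a * z * a⁻¹ ≠ 1 := fun a =>
    ⟨by rw [conj_mul, D.inv, mul_one, mul_inv_cancel], fun e => hz1 (conj_eq_one_iff.1 e)⟩
  obtain ⟨c, hcz, hc⟩ := D.conj_V (hinvol g).1 hg hne (hinvol g).2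
  obtain ⟨a, ha⟩ : ∃ a : G, a * z * a⁻¹ = dG ψ dV := ⟨c * g, by rw [← hc]; group⟩
  have hvz : dG ψ dV * z = z * dG ψ dV :=
    Subgroup.mem_centralizer_singleton_iff.1 (eightG_le (dG_mem ψ (by decide)))
  have hac : a⁻¹ * z * a⁻¹⁻¹ * z = z * (a⁻¹ * z * a⁻¹⁻¹) := by
    calc a⁻¹ * z * a⁻¹⁻¹ * z = a⁻¹ * (z * (a * z * a⁻¹)) * a := by group
      _ = a⁻¹ * ((a * z * a⁻¹) * z) * a := by rw [ha, hvz]
      _ = _ := by group
  let t : ℂz := ⟨a⁻¹ * z * a⁻¹⁻¹, Subgroup.mem_centralizer_singleton_iff.2 hac⟩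
  have htz : t ≠ K.s := fun e => by
    have e' : a⁻¹ * z * a⁻¹⁻¹ = z := (congrArg Subtype.val e).trans D.cs
    have h1 : z = dG ψ dV := by
      calc z = a * (a⁻¹ * z * a⁻¹⁻¹) * a⁻¹ := by group
        _ = dG ψ dV := by rw [e', ha]
    have h2 : dG ψ dT = dG ψ dV := by rw [← h1, dG, dP_T, D.psiT]
    exact absurd (dG_inj ψ (by decide) (by decide) h2) (by decide)
  have h := (phi4_z D hn (t := t) (Subtype.ext (hinvol a⁻¹).1)
    (fun e => (hinvol a⁻¹).2 (congrArg Subtype.val e)) htz).conj a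
  have e : a * (t : G) * a⁻¹ = z := by show a * (a⁻¹ * z * a⁻¹⁻¹) * a⁻¹ = z; group
  rw [ha, e] at h
  exact not_phi4_v D hn (by simpa only [Phi4, dSet_swap] using h)

end Cfsg.Lib.MclNine
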